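import Cfsg.Agent.Lib.Solvable.Hall
import Cfsg.Agent.Lib.Coprime.Action
import Cfsg.Agent.Lib.Coprime.Generation
import Cfsg.Agent.Lib.Fitting
import Cfsg.Agent.Lib.Thompson.Cores
import Cfsg.Agent.Lib.Thompson.QuadApply
import Cfsg.Agent.Lib.SmallGroups.Basic
import Cfsg.Agent.OddLocal44.Stability

/-!
Groups in which every subgroup of order prime to `p` is abelian of exponent dividing `p - 1`:
setting, Hall subgroups and the structure of proper subgroups.
-/

set_option autoImplicit false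
set_option linter.all false
set_option maxHeartbeats 400000

open Subgroup

namespace Cfsg.Agent.AbExp

variable {G : Type*} [Group G]

/-- The hypothesis on subgroups of order prime to `p`. -/
def Hyp (p : ℕ) (G : Type*) [Group G] : Prop :=
  ∀ H : Subgroup G, (Nat.card ↥H).Coprime p →
    IsMulCommutative ↥H ∧ ∀ x ∈ H, x ^ (p - 1) = 1

/-- A minimal non-solvable simple group with the hypothesis. -/
structure Std (p : ℕ) (G : Type*) [Group G] : Prop where
  hprime : p.Prime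
  five : 5 ≤ p
  finite : Finite G
  simple : IsSimpleGroup G
  nonsolv : ¬ Group.IsSolvable G
  psolv : ∀ H : Subgroup G, H ≠ ⊤ → Group.IsSolvable ↥H
  hyp : Hyp p G

/-- `O_p(S)` as a subgroup of the ambient group. -/
def op (p : ℕ) (S : Subgroup G) : Subgroup G := (Cfsg.pCore p ↥S).map S.subtype

/-- `H` is a Hall `p'`-subgroup of `S`. -/
def IsHall (p : ℕ) (S H : Subgroup G) : Prop :=
  H ≤ S ∧ (Nat.card ↥H).Coprime p ∧ ∃ k, Nat.card ↥S = Nat.card ↥H * p ^ k

variable {p : ℕ}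

theorem conj_mem_of {S : Subgroup G} {s x : G} (hs : s ∈ S) (hx : x ∈ S) : s * x * s⁻¹ ∈ S :=
  mul_mem (mul_mem hs hx) (inv_mem hs)

theorem mem_normalizer_of_conj [Finite G] {H : Subgroup G} {g : G}
    (h : ∀ x ∈ H, g * x * g⁻¹ ∈ H) : g ∈ normalizer (H : Set G) := by
  refine mem_normalizer_iff.mpr fun x => ⟨h x, fun hx => ?_⟩
  have hm : H.map (MulAut.conj g).toMonoidHom = H := by
    refine eq_of_le_of_card_ge ?_ ?_
    · rintro _ ⟨y, hy, rfl⟩; exact h y hy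
    · rw [card_map_of_injective (MulAut.conj g).injective]
  obtain ⟨y, hy, hye⟩ := hm.symm ▸ hx
  have : y = x := (MulAut.conj g).injective hye
  exact this ▸ hy

theorem op_le (p : ℕ) (S : Subgroup G) : op p S ≤ S := map_subtype_le _

theorem op_normal (p : ℕ) (S : Subgroup G) : S ≤ normalizer (op p S : Set G) := by
  haveI : (Cfsg.pCore p ↥S).Normal := inferInstance
  refine Coprime.le_normalizer_of_conj_mem fun s hs x hx => ?_
  obtain ⟨y, hy, rfl⟩ := hx
  exact ⟨⟨s, hs⟩ * y * ⟨s, hs⟩⁻¹, Subgroup.Normal.conj_mem inferInstance y hy _, rfl⟩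

theorem op_isPGroup [Finite G] [Fact p.Prime] (S : Subgroup G) : IsPGroup p ↥(op p S) :=
  Thompson.isPGroup_pCore.map _

theorem le_op [Finite G] [Fact p.Prime] {S U : Subgroup G} (hUS : U ≤ S) (hU : IsPGroup p ↥U)
    (hn : S ≤ normalizer (U : Set G)) : U ≤ op p S := by
  haveI : (U.subgroupOf S).Normal := (normal_subgroupOf_iff_le_normalizer hUS).mpr hn
  have h := Thompson.le_pCore (inferInstance : (U.subgroupOf S).Normal) (hU.comap_subtype (K := S))
  intro x hx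
  exact ⟨⟨x, hUS hx⟩, h hx, rfl⟩

/-! ### Elements of order prime to `p` -/

theorem coprime_zpowers {x : G} : (Nat.card ↥(zpowers x)).Coprime p ↔ (orderOf x).Coprime p := by
  rw [Nat.card_zpowers]

theorem coprime_orderOf {H : Subgroup G} (hH : (Nat.card ↥H).Coprime p) {x : G} (hx : x ∈ H) :
    (orderOf x).Coprime p :=
  hH.coprime_dvd_left (orderOf_dvd_natCard H hx)

theorem Hyp.pow_eq_one (h : Hyp p G) {x : G} (hx : (orderOf x).Coprime p) : x ^ (p - 1) = 1 :=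
  (h _ (coprime_zpowers.mpr hx)).2 x (mem_zpowers x)

theorem Hyp.comm (h : Hyp p G) {H : Subgroup G} (hH : (Nat.card ↥H).Coprime p) {x y : G}
    (hx : x ∈ H) (hy : y ∈ H) : Commute x y := by
  haveI := (h H hH).1
  exact congrArg Subtype.val (mul_comm' (⟨x, hx⟩ : ↥H) ⟨y, hy⟩)

theorem Hyp.dvd_pred (h : Hyp p G) [Finite G] {q : ℕ} (hq : q.Prime) (hqp : q ≠ p) (hp : p.Prime)
    (hd : q ∣ Nat.card G) : q ∣ p - 1 := by
  haveI := Fact.mk hq
  obtain ⟨x, hx⟩ := exists_prime_orderOf_dvd_card' q hd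
  have := h.pow_eq_one (x := x) (hx ▸ (Nat.coprime_primes hq hp).mpr hqp)
  exact hx ▸ orderOf_dvd_of_pow_eq_one this

theorem Hyp.subgroup (h : Hyp p G) (K : Subgroup G) : Hyp p ↥K := by
  intro H hH
  have hc : (Nat.card ↥(H.map K.subtype)).Coprime p := by
    rw [card_map_of_injective K.subtype_injective]; exact hH
  refine ⟨⟨⟨fun a b => ?_⟩⟩, fun x hx => ?_⟩
  · have := h.comm hc (mem_map_of_mem K.subtype a.2) (mem_map_of_mem K.subtype b.2)
    exact Subtype.ext (Subtype.ext this)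
  · exact Subtype.ext (by simpa using (h _ hc).2 _ (mem_map_of_mem K.subtype hx))

/-! ### Hall subgroups and structure of solvable groups -/

theorem exists_split [Finite G] [Fact p.Prime] :
    ∃ m k, Nat.card G = m * p ^ k ∧ m.Coprime p := by
  obtain ⟨k, m, hm, hc⟩ := Nat.exists_eq_pow_mul_and_not_dvd (Nat.card_pos (α := G)).ne' p
    (Fact.out : p.Prime).ne_one
  exact ⟨m, k, by rw [hc, Nat.mul_comm], ((Fact.out : p.Prime).coprime_iff_not_dvd.mpr hm).symm⟩

theorem hall_card_eq [Fact p.Prime] {n m m' k k' : ℕ} (hm : m.Coprime p) (hm' : m'.Coprime p)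
    (h : n = m * p ^ k) (h' : n = m' * p ^ k') : m = m' ∧ p ^ k = p ^ k' := by
  have h1 : m ∣ m' := (hm.pow_right k').dvd_of_dvd_mul_right (h' ▸ ⟨p ^ k, h⟩)
  have h2 : m' ∣ m := (hm'.pow_right k).dvd_of_dvd_mul_right (h ▸ ⟨p ^ k', h'⟩)
  have h3 := Nat.dvd_antisymm h1 h2
  subst h3
  refine ⟨rfl, ?_⟩
  rcases Nat.eq_zero_or_pos m with h0 | h0
  · subst h0
    have := (Nat.coprime_zero_left p).mp hm
    exact absurd this (Fact.out : p.Prime).ne_one
  · exact Nat.eq_of_mul_eq_mul_left h0 (h ▸ h')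

theorem map_eq_pPrimeCore {X : Type*} [Group X] [Finite X] [Group.IsSolvable X] [Fact p.Prime]
    (hO : Cfsg.pCore p X = ⊥) (H : Subgroup X) (hH : (Nat.card ↥H).Coprime p) {m j : ℕ}
    (hHm : Nat.card ↥H = m) (hj : Nat.card X = m * p ^ j) (hab : IsMulCommutative ↥H) :
    H = Cfsg.pPrimeCore p X ∧
      centralizer (Cfsg.pPrimeCore p X : Set X) ≤ Cfsg.pPrimeCore p X := by
  have hRc : (Nat.card ↥(Cfsg.pPrimeCore p X)).Coprime p := Thompson.card_pPrimeCore_coprime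
  have hRH : Cfsg.pPrimeCore p X ≤ H := Solvable.normal_le_of_card_coprime hj H _ hHm
    (hRc.pow_right j) (hHm ▸ hH.pow_right j)
  have hcle := Thompson.centralizer_pPrimeCore_le
    (OddLocal44.isPSolvable_of_isSolvable (G := X) (p := p)) hO
  refine ⟨le_antisymm (fun h hh => hcle (mem_centralizer_iff.mpr fun r hr =>
    congrArg Subtype.val (mul_comm' (⟨r, hRH hr⟩ : ↥H) ⟨h, hh⟩))) hRH, hcle⟩

/-- Frattini argument for a normal subgroup containing a Hall subgroup. -/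
theorem frattini_hall {X : Type*} [Group X] [Finite X] [Group.IsSolvable X] [Fact p.Prime]
    (V H : Subgroup X) [V.Normal] (hH : (Nat.card ↥H).Coprime p) {k : ℕ}
    (hk : Nat.card X = Nat.card ↥H * p ^ k) (hN : (V ⊔ H).Normal) (x : X) :
    ∃ v ∈ V, ∃ n ∈ normalizer (H : Set X), x = v * n := by
  have hHU : H ≤ V ⊔ H := le_sup_right
  have hcU : Nat.card ↥(H.subgroupOf (V ⊔ H)) = Nat.card ↥H :=
    Nat.card_congr (subgroupOfEquivOfLe hHU).toEquiv
  have hdu : Nat.card ↥(V ⊔ H) ∣ Nat.card ↥H * p ^ k := hk ▸ card_subgroup_dvd_card _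
  obtain ⟨d, hd⟩ := card_dvd_of_le hHU
  have hdp : d ∣ p ^ k := Nat.dvd_of_mul_dvd_mul_left Nat.card_pos (hd ▸ hdu)
  have hKU : H.map (MulAut.conj x).toMonoidHom ≤ V ⊔ H := by
    rintro _ ⟨h, hh, rfl⟩
    exact hN.conj_mem h (hHU hh) x
  have hKc : Nat.card ↥((H.map (MulAut.conj x).toMonoidHom).subgroupOf (V ⊔ H)) = Nat.card ↥H := by
    rw [Nat.card_congr (subgroupOfEquivOfLe hKU).toEquiv,
      card_map_of_injective (MulAut.conj x).injective]
  haveI : Group.IsSolvable ↥(V ⊔ H) := inferInstance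
  obtain ⟨g, hg⟩ := Solvable.hall_conj (G := ↥(V ⊔ H)) hd
    ((hH.pow_right k).coprime_dvd_right hdp) (H.subgroupOf (V ⊔ H))
    ((H.map (MulAut.conj x).toMonoidHom).subgroupOf (V ⊔ H)) hcU hKc
  have hgx : ∀ h ∈ H, x⁻¹ * (g : X) * h * ((g : X)⁻¹ * x) ∈ H := by
    intro h hh
    have hm : g * ⟨h, hHU hh⟩ * g⁻¹ ∈ (H.map (MulAut.conj x).toMonoidHom).subgroupOf (V ⊔ H) :=
      hg ▸ smul_mem_pointwise_smul _ (MulAut.conj g) _ (mem_subgroupOf.mpr hh)
    obtain ⟨h', hh', he⟩ := mem_subgroupOf.mp hm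
    have he' : x * h' * x⁻¹ = (g : X) * h * (g : X)⁻¹ := he
    convert hh' using 1
    have : h' = x⁻¹ * ((g : X) * h * (g : X)⁻¹) * x := by rw [← he']; group
    rw [this]; group; rfl
  have hn : x⁻¹ * (g : X) ∈ normalizer (H : Set X) :=
    mem_normalizer_of_conj fun h hh => by simpa [mul_assoc] using hgx h hh
  obtain ⟨w, hw, h, hh, hwh⟩ := (mem_sup_of_normal_left (s := V)).mp g.2
  refine ⟨w, hw, h * ((g : X)⁻¹ * x), mul_mem (le_normalizer hh) ?_, ?_⟩
  · simpa using inv_mem hn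
  · rw [← mul_assoc, hwh]; group

theorem card_map_mk' {X : Type*} [Group X] (V H : Subgroup X) [V.Normal] (h : H ⊓ V = ⊥) :
    Nat.card ↥(H.map (QuotientGroup.mk' V)) = Nat.card ↥H := by
  refine (Nat.card_congr (Equiv.ofBijective (fun a : ↥H => (⟨QuotientGroup.mk' V a, a, a.2, rfl⟩ :
    ↥(H.map (QuotientGroup.mk' V)))) ⟨fun a b e => ?_, ?_⟩)).symm
  · have he : (a : X)⁻¹ * b ∈ V := QuotientGroup.eq.mp (congrArg Subtype.val e)
    have : (a : X)⁻¹ * b ∈ H ⊓ V := Subgroup.mem_inf.mpr ⟨H.mul_mem (H.inv_mem a.2) b.2, he⟩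
    rw [h, mem_bot] at this
    exact Subtype.ext (inv_mul_eq_one.mp this)
  · rintro ⟨_, a, ha, rfl⟩
    exact ⟨⟨a, ha⟩, rfl⟩

/-- Structure of a solvable group whose `p'`-subgroups are abelian, `H` a Hall `p'`-subgroup. -/
theorem solv_struct {X : Type*} [Group X] [Finite X] [Group.IsSolvable X] [Fact p.Prime]
    (H : Subgroup X) (hH : (Nat.card ↥H).Coprime p) {k : ℕ}
    (hk : Nat.card X = Nat.card ↥H * p ^ k) (hab : IsMulCommutative ↥H) :
    (Cfsg.pCore p X ⊔ H).Normal ∧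
      (∀ x : X, ∃ v ∈ Cfsg.pCore p X, ∃ n ∈ normalizer (H : Set X), x = v * n) ∧
      (∀ y : X, (∀ h ∈ H, Commute y h) → ∃ v ∈ Cfsg.pCore p X, ∃ h ∈ H, y = v * h) := by
  obtain ⟨v, hv⟩ := IsPGroup.iff_card.mp (Thompson.isPGroup_pCore (p := p) (G := X))
  have hdis : H ⊓ Cfsg.pCore p X = ⊥ :=
    disjoint_iff.mp (disjoint_of_coprime_natCard
      (show (Nat.card ↥H).Coprime (Nat.card ↥(Cfsg.pCore p X)) by rw [hv]; exact hH.pow_right v))
  have hcard := card_map_mk' _ H hdis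
  have hqk : ∃ j, Nat.card (X ⧸ Cfsg.pCore p X) = Nat.card ↥H * p ^ j := by
    have h1 := Subgroup.card_eq_card_quotient_mul_card_subgroup (Cfsg.pCore p X)
    rw [hk, hv] at h1
    have hvk : p ^ v ∣ p ^ k := (hH.symm.pow_left v).dvd_of_dvd_mul_left
      ⟨Nat.card (X ⧸ Cfsg.pCore p X), h1.trans (Nat.mul_comm _ _)⟩
    have hle : v ≤ k := (Nat.pow_dvd_pow_iff_le_right (Fact.out : p.Prime).one_lt).mp hvk
    refine ⟨k - v, ?_⟩
    refine Nat.eq_of_mul_eq_mul_right (pow_pos (Fact.out : p.Prime).pos v) ?_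
    rw [← h1, Nat.mul_assoc, ← pow_add, Nat.sub_add_cancel hle]
  obtain ⟨j, hj⟩ := hqk
  haveI : Group.IsSolvable (X ⧸ Cfsg.pCore p X) :=
    Group.isSolvable_of_surjective (QuotientGroup.mk'_surjective (Cfsg.pCore p X))
  haveI := hab
  obtain ⟨hHR, hcle⟩ := map_eq_pPrimeCore (p := p) Thompson.pCore_quotient_pCore
    (H.map (QuotientGroup.mk' (Cfsg.pCore p X))) (by rw [hcard]; exact hH) hcard hj
    (Subgroup.map_isMulCommutative H _)
  have hsup : Cfsg.pCore p X ⊔ H =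
      (Cfsg.pPrimeCore p (X ⧸ Cfsg.pCore p X)).comap (QuotientGroup.mk' _) := by
    rw [← hHR, comap_map_eq, QuotientGroup.ker_mk', sup_comm]
  have hN : (Cfsg.pCore p X ⊔ H).Normal := by rw [hsup]; infer_instance
  refine ⟨hN, fun x => frattini_hall _ H hH hk hN x, fun y hy => ?_⟩
  have hyb : QuotientGroup.mk' (Cfsg.pCore p X) y ∈ Cfsg.pPrimeCore p (X ⧸ Cfsg.pCore p X) :=
    hcle (mem_centralizer_iff.mpr fun r hr => by
      rw [← hHR] at hr
      obtain ⟨h, hh, rfl⟩ := hr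
      rw [← map_mul, ← map_mul, (hy h hh).eq])
  have : y ∈ Cfsg.pCore p X ⊔ H := by rw [hsup]; exact hyb
  obtain ⟨w, hw, h, hh, hwh⟩ := mem_sup_of_normal_left.mp this
  exact ⟨w, hw, h, hh, hwh.symm⟩

namespace Std

variable (S : Std p G)
include S

theorem factP : Fact p.Prime := ⟨S.hprime⟩

theorem one_lt_card : Nontrivial G := S.simple.toNontrivial

theorem center_eq_bot : center G = ⊥ := by
  haveI := S.simple
  rcases (inferInstance : (center G).Normal).eq_bot_or_eq_top with h | h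
  · exact h
  · exact absurd (Group.isSolvable_of_comm fun a b => ((mem_center_iff.mp (h ▸ mem_top b)) a)) S.nonsolv

theorem commutator_eq_top : commutator G = ⊤ := by
  haveI := S.simple
  rcases (inferInstance : (commutator G).Normal).eq_bot_or_eq_top with h | h
  · exfalso
    refine S.nonsolv (Group.isSolvable_of_comm fun a b => ?_)
    have hm : a * b * a⁻¹ * b⁻¹ ∈ commutator G := by
      rw [_root_.commutator_def, ← commutatorElement_def]
      exact commutator_mem_commutator (mem_top _) (mem_top _)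
    rw [h, mem_bot] at hm
    exact mul_inv_eq_iff_eq_mul.mp (mul_inv_eq_one.mp hm)
  · exact h

theorem centralizer_ne_top {x : G} (hx : x ≠ 1) : centralizer ({x} : Set G) ≠ ⊤ := fun h =>
  hx (mem_bot.mp (S.center_eq_bot ▸ mem_center_iff.mpr fun g => by
    have hg : g ∈ centralizer ({x} : Set G) := h ▸ mem_top g
    exact (mem_centralizer_singleton_iff.mp hg)))

theorem normalizer_ne_top {K : Subgroup G} (h1 : K ≠ ⊥) (h2 : K ≠ ⊤) :
    normalizer (K : Set G) ≠ ⊤ := fun h => by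
  haveI := S.simple
  rcases (normalizer_eq_top_iff.mp h : K.Normal).eq_bot_or_eq_top with hh | hh
  · exact h1 hh
  · exact h2 hh

theorem lt_p {q : ℕ} (hq : q.Prime) (hqp : q ≠ p) (hd : q ∣ Nat.card G) : q < p := by
  haveI := S.finite
  have := Nat.le_of_dvd (by have := S.five; omega) (S.hyp.dvd_pred hq hqp S.hprime hd)
  have := S.five
  omega

theorem exists_hall {T : Subgroup G} (hT : T ≠ ⊤) {K : Subgroup G} (hK : K ≤ T)
    (hKc : (Nat.card ↥K).Coprime p) : ∃ H, IsHall p T H ∧ K ≤ H := by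
  haveI := S.finite
  haveI := S.factP
  haveI := S.psolv T hT
  obtain ⟨m, k, hmk, hm⟩ := exists_split (p := p) (G := ↥T)
  have hKc' : (Nat.card ↥(K.subgroupOf T)).Coprime p := by
    rwa [Nat.card_congr (subgroupOfEquivOfLe hK).toEquiv]
  obtain ⟨H, hH, hle⟩ := Solvable.exists_hall_ge hmk (hm.pow_right k) (K.subgroupOf T)
    (hKc'.pow_right k)
  have hc : Nat.card ↥(H.map T.subtype) = m := by
    rw [card_map_of_injective T.subtype_injective, hH]
  refine ⟨H.map T.subtype, ⟨map_subtype_le _, hc ▸ hm, k, hc ▸ hmk⟩, fun x hx => ?_⟩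
  exact ⟨⟨x, hK hx⟩, hle (mem_subgroupOf.mpr hx), rfl⟩

theorem hall_conj {T : Subgroup G} (hT : T ≠ ⊤) {H : Subgroup G} (hH : IsHall p T H)
    {K : Subgroup G} (hK : K ≤ T) (hKc : (Nat.card ↥K).Coprime p) :
    ∃ t ∈ T, ∀ x ∈ K, t⁻¹ * x * t ∈ H := by
  haveI := S.finite
  haveI := S.factP
  haveI := S.psolv T hT
  obtain ⟨hHT, hHc, k, hk⟩ := hH
  obtain ⟨t, ht⟩ := Solvable.le_conj_hall (G := ↥T) hk (hHc.pow_right k) (H.subgroupOf T)
    (K.subgroupOf T) (Nat.card_congr (subgroupOfEquivOfLe hHT).toEquiv)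
    (by rw [Nat.card_congr (subgroupOfEquivOfLe hK).toEquiv]; exact hKc.pow_right k)
  refine ⟨t, t.2, fun x hx => ?_⟩
  obtain ⟨y, hy, hye⟩ := ht (show (⟨x, hK hx⟩ : ↥T) ∈ K.subgroupOf T from mem_subgroupOf.mpr hx)
  have : x = (t : G) * (y : G) * (t : G)⁻¹ := (congrArg Subtype.val hye).symm
  rw [this]
  convert mem_subgroupOf.mp hy using 1
  group

theorem structure_hall {T : Subgroup G} (hT : T ≠ ⊤) {H : Subgroup G} (hH : IsHall p T H) :
    T ≤ normalizer ((op p T ⊔ H : Subgroup G) : Set G) ∧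
      (∀ t ∈ T, ∃ v ∈ op p T, ∃ n ∈ T ⊓ normalizer (H : Set G), t = v * n) ∧
      (∀ y ∈ T, (∀ h ∈ H, Commute y h) → ∃ v ∈ op p T, ∃ h ∈ H, y = v * h) := by
  haveI := S.finite
  haveI := S.factP
  haveI := S.psolv T hT
  obtain ⟨hHT, hHc, k, hk⟩ := hH
  have hc : Nat.card ↥(H.subgroupOf T) = Nat.card ↥H :=
    Nat.card_congr (subgroupOfEquivOfLe hHT).toEquiv
  obtain ⟨h1, h2, h3⟩ := solv_struct (H.subgroupOf T) (hc ▸ hHc) (k := k) (hc ▸ hk)
    ((S.hyp.subgroup T) _ (hc ▸ hHc)).1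
  have hmap : (Cfsg.pCore p ↥T ⊔ H.subgroupOf T).map T.subtype = op p T ⊔ H := by
    rw [Subgroup.map_sup, map_subgroupOf_eq_of_le hHT]; rfl
  refine ⟨?_, fun t ht => ?_, fun y hy hyc => ?_⟩
  · rw [← hmap]
    refine Coprime.le_normalizer_of_conj_mem fun s hs x hx => ?_
    obtain ⟨z, hz, rfl⟩ := hx
    exact ⟨⟨s, hs⟩ * z * ⟨s, hs⟩⁻¹, h1.conj_mem z hz _, rfl⟩
  · obtain ⟨v, hv, n, hn, he⟩ := h2 ⟨t, ht⟩
    refine ⟨v, ⟨v, hv, rfl⟩, n, ⟨n.2, mem_normalizer_of_conj fun x hx => ?_⟩,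
      congrArg Subtype.val he⟩
    have := (mem_normalizer_iff.mp hn (⟨x, hHT hx⟩ : ↥T)).mp (mem_subgroupOf.mpr hx)
    exact mem_subgroupOf.mp this
  · obtain ⟨v, hv, h, hh, he⟩ := h3 ⟨y, hy⟩ fun h hh =>
      Subtype.ext (hyc h (mem_subgroupOf.mp hh))
    exact ⟨v, ⟨v, hv, rfl⟩, h, mem_subgroupOf.mp hh, congrArg Subtype.val he⟩

end Std

end Cfsg.Agent.AbExp
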