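import Cfsg.Agent.AbExp.Signal
import Cfsg.Agent.Lib.Transfer.Abelian
import Cfsg.Agent.Lib.Transfer.Focal

/-!
The maximal subgroups containing a thick subgroup.
-/

set_option autoImplicit false
set_option linter.all false
set_option maxHeartbeats 400000

open Subgroup
open scoped Pointwise

namespace Cfsg.Agent.AbExp

variable {G : Type*} [Group G] {p : ℕ}

/-- `M` is a proper subgroup containing all the centralisers attached to `Ω₁(Q)`. -/
structure BigAt (q : ℕ) [Fact q.Prime] (Q : Sylow q G) (M : Subgroup G) : Prop where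
  ne_top : M ≠ ⊤
  norm : normalizer (omega q (Q : Subgroup G) : Set G) ≤ M
  cent : ∀ a ∈ omega q (Q : Subgroup G), a ≠ 1 → centralizer ({a} : Set G) ≤ M

/-- `M` is attached to some Sylow subgroup for a prime other than `p`. -/
def Big (p : ℕ) (M : Subgroup G) : Prop :=
  ∃ (q : ℕ) (_ : Fact q.Prime) (Q : Sylow q G), q ≠ p ∧ q ∣ Nat.card G ∧ BigAt q Q M

theorem normalizer_le_omega [Finite G] {q : ℕ} (X : Subgroup G) [IsMulCommutative ↥X] :
    normalizer (X : Set G) ≤ normalizer (omega q X : Set G) := fun n hn =>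
  mem_normalizer_of_conj fun x hx => mem_omega_of ((mem_normalizer_iff.mp hn x).mp (omega_le q X hx))
    (by rw [conj_pow, (mem_omega.mp hx).2, mul_one, mul_inv_cancel])

theorem exists_prime_pow [Finite G] {x : G} (hx : PReg p x) (hp : p.Prime) :
    ∃ r k : ℕ, r.Prime ∧ r ≠ p ∧ orderOf (x ^ k) = r := by
  have h1 : orderOf x ≠ 1 := fun h => hx.2 (orderOf_eq_one_iff.mp h)
  refine ⟨(orderOf x).minFac, orderOf x / (orderOf x).minFac, Nat.minFac_prime h1, fun h => ?_, ?_⟩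
  · exact hp.ne_one (Nat.Coprime.eq_one_of_dvd hx.1.symm (h ▸ Nat.minFac_dvd _))
  · exact orderOf_pow_orderOf_div (orderOf_pos x).ne' (Nat.minFac_dvd _)

theorem exists_sylow_mem [Finite G] {r : ℕ} [Fact r.Prime] {y : G} (hy : orderOf y = r) :
    ∃ R : Sylow r G, y ∈ (R : Subgroup G) := by
  have h : IsPGroup r ↥(zpowers y) := IsPGroup.of_card (n := 1) (by rw [Nat.card_zpowers, hy, pow_one])
  obtain ⟨R, hR⟩ := h.exists_le_sylow
  exact ⟨R, hR (mem_zpowers y)⟩

namespace Std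

variable (S : Std p G)
include S

theorem exists_bigAt {q : ℕ} [hqf : Fact q.Prime] (hqp : q ≠ p) (hd : q ∣ Nat.card G)
    (Q : Sylow q G) : ∃ M, BigAt q Q M := by
  haveI := S.finite
  haveI := S.factP
  haveI := S.sylow_comm hqf.out hqp Q
  have hA := S.thick_omega hqp hd Q
  set A := omega q (Q : Subgroup G) with hAdef
  obtain ⟨X, hX, hNX, hθ⟩ := S.exists_core hA
  obtain ⟨a0, ha0, ha01⟩ := hA.exists_ne_one
  have hAne : A ≠ ⊥ := fun h => ha01 (mem_bot.mp (h ▸ ha0))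
  have hAtop : A ≠ ⊤ := fun h => S.nonsolv (Group.isSolvable_of_comm fun x y =>
    (S.hyp.comm (hA.coprime S.hprime) (h ▸ mem_top x) (h ▸ mem_top y)).eq)
  refine ⟨X ⊔ normalizer (A : Set G), fun h => ?_, le_sup_right, fun a ha ha1 => ?_⟩
  · rcases eq_or_ne X ⊥ with hXb | hXb
    · rw [hXb, bot_sup_eq] at h
      exact S.normalizer_ne_top hAne hAtop h
    · have hXtop : X ≠ ⊤ := fun hh => by
        rw [hh] at hX
        haveI := Coprime.isSolvable_of_isNilpotent' hX.isNilpotent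
        exact S.nonsolv (Group.isSolvable_of_surjective
          (f := (Subgroup.topEquiv (G := G)).toMonoidHom) (Subgroup.topEquiv (G := G)).surjective)
      exact S.normalizer_ne_top hXb hXtop (top_le_iff.mp (h ▸ sup_le le_normalizer hNX))
  · have hC := S.centralizer_ne_top ha1
    have hQC : (Q : Subgroup G) ≤ centralizer ({a} : Set G) := fun x hx =>
      mem_centralizer_singleton_iff.mpr (S.hyp.comm (S.coprime_of_isPGroup hqf.out hqp Q.2) hx
        (omega_le q _ ha)).eq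
    obtain ⟨H, hH, hQH⟩ := S.exists_hall hC hQC (S.coprime_of_isPGroup hqf.out hqp Q.2)
    intro t ht
    obtain ⟨v, hv, n, hn, rfl⟩ := (S.structure_hall hC hH).2.1 t ht
    refine mul_mem (mem_sup_left (hθ a ha ha1 hv)) (mem_sup_right (mem_normalizer_of_conj fun y hy => ?_))
    obtain ⟨hyQ, hyq⟩ := mem_omega.mp hy
    have hm : n * y * n⁻¹ ∈ H := (mem_normalizer_iff.mp hn.2 y).mp (hQH hyQ)
    have hp1 : (n * y * n⁻¹) ^ q ^ 1 = 1 := by
      rw [pow_one, conj_pow, hyq, mul_one, mul_inv_cancel]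
    exact mem_omega_of (mem_sylow_of_commute Q hp1 fun x hx => S.hyp.comm hH.2.1 (hQH hx) hm)
      (by rwa [pow_one] at hp1)

variable {q : ℕ} [hqf : Fact q.Prime] {Q : Sylow q G} {M : Subgroup G}

theorem sylow_le (hqp : q ≠ p) (hM : BigAt q Q M) : (Q : Subgroup G) ≤ M := by
  haveI := S.finite
  haveI := S.sylow_comm hqf.out hqp Q
  exact le_normalizer.trans ((normalizer_le_omega _).trans hM.norm)

/-- Strong form of the uniqueness of the attached subgroup. -/
theorem mem_of_conj (hqp : q ≠ p) (hM : BigAt q Q M) {b g : G} (hb : b ∈ omega q (Q : Subgroup G))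
    (hb1 : b ≠ 1) (hg : g * b * g⁻¹ ∈ M) : g ∈ M := by
  haveI := S.finite
  haveI := S.factP
  haveI := S.sylow_comm hqf.out hqp Q
  have hQM := S.sylow_le hqp hM
  obtain ⟨hbQ, hbq⟩ := mem_omega.mp hb
  have hy : (g * b * g⁻¹) ^ q = 1 := by rw [conj_pow, hbq, mul_one, mul_inv_cancel]
  have hz : IsPGroup q ↥(zpowers (⟨g * b * g⁻¹, hg⟩ : ↥M)) := by
    refine IsPGroup.of_card (n := 1) ?_
    rw [Nat.card_zpowers, pow_one, Subgroup.orderOf_mk]
    exact orderOf_eq_prime hy fun h => hb1 (by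
      have := congrArg (fun z => g⁻¹ * z * g) h
      simpa [mul_assoc] using this)
  obtain ⟨Y, hY⟩ := hz.exists_le_sylow
  obtain ⟨m, hm⟩ := MulAction.exists_smul_eq ↥M Y (Q.subtype hQM)
  have hmem : m * ⟨g * b * g⁻¹, hg⟩ * m⁻¹ ∈ ((Q.subtype hQM : Sylow q ↥M) : Subgroup ↥M) := by
    rw [← hm, Sylow.coe_subgroup_smul]
    exact smul_mem_pointwise_smul _ (MulAut.conj m) _ (hY (mem_zpowers _))
  rw [Sylow.coe_subtype, mem_subgroupOf] at hmem
  have hmem' : ((m : G) * g) * b * ((m : G) * g)⁻¹ ∈ (Q : Subgroup G) := by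
    have : ((m * ⟨g * b * g⁻¹, hg⟩ * m⁻¹ : ↥M) : G) = ((m : G) * g) * b * ((m : G) * g)⁻¹ := by
      push_cast; group
    rwa [this] at hmem
  obtain ⟨n, hn, he⟩ := Transfer.conj_normalizer_of_abelian Q (S.sylow_comm hqf.out hqp Q) hbQ hmem'
  have hc : n⁻¹ * ((m : G) * g) ∈ centralizer ({b} : Set G) := by
    refine mem_centralizer_singleton_iff.mpr ?_
    calc n⁻¹ * ((m : G) * g) * b = n⁻¹ * (((m : G) * g) * b * ((m : G) * g)⁻¹) * ((m : G) * g) := by
          group
      _ = n⁻¹ * (n * b * n⁻¹) * ((m : G) * g) := by rw [he]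
      _ = b * (n⁻¹ * ((m : G) * g)) := by group
  have h1 := M.mul_mem (hM.norm (normalizer_le_omega _ hn)) (hM.cent b hb hb1 hc)
  rw [mul_inv_cancel_left] at h1
  simpa using M.mul_mem (M.inv_mem m.2) h1

/-- Every proper subgroup meeting `Ω₁(Q)` in a thick subgroup lies in `M`. -/
theorem bigAt_le_of_thick (hqp : q ≠ p) (hM : BigAt q Q M) {T : Subgroup G} (hT : T ≠ ⊤)
    {B : Subgroup G} {q' : ℕ} (hB : Thick p q' B) (hBA : B ≤ omega q (Q : Subgroup G))
    (hBT : B ≤ T) : T ≤ M := by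
  haveI := S.finite
  haveI := S.factP
  haveI := hB.comm
  obtain ⟨H, hH, hBH⟩ := S.exists_hall hT hBT (hB.coprime S.hprime)
  obtain ⟨b, hb, hb1⟩ := hB.exists_ne_one
  have hHM : H ≤ M := fun h hh => hM.cent b (hBA hb) hb1
    (mem_centralizer_singleton_iff.mpr (S.hyp.comm hH.2.1 hh (hBH hb)).eq)
  obtain ⟨k, hk⟩ := IsPGroup.iff_card.mp (op_isPGroup (p := p) T)
  have hVM : op p T ≤ M := Coprime.le_of_centralizer_le B (op p T) M hB.not_isCyclic
    (hBT.trans (op_normal p T))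
    (by rw [hk]; exact (hB.coprime S.hprime).pow_right k)
    fun e he he1 => inf_le_right.trans (hM.cent e (hBA he) he1)
  intro t ht
  obtain ⟨v, hv, n, hn, rfl⟩ := (S.structure_hall hT hH).2.1 t ht
  refine mul_mem (hVM hv) (S.mem_of_conj hqp hM (hBA hb) hb1 (hHM ?_))
  exact (mem_normalizer_iff.mp hn.2 b).mp (hBH hb)

theorem bigAt_centralizer_le (hqp : q ≠ p) (hd : q ∣ Nat.card G) (hM : BigAt q Q M) {x : G}
    (hx : x ∈ M) (hxr : PReg p x) : centralizer ({x} : Set G) ≤ M := by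
  haveI := S.finite
  haveI := S.factP
  obtain ⟨H, hH, hQH⟩ := S.exists_hall hM.ne_top (S.sylow_le hqp hM)
    (S.coprime_of_isPGroup hqf.out hqp Q.2)
  obtain ⟨t, ht, htx⟩ := S.hall_conj hM.ne_top hH (K := zpowers x) (zpowers_le.mpr hx)
    (coprime_zpowers.mpr hxr.1)
  have hy := htx x (mem_zpowers x)
  set y := t⁻¹ * x * t with hydef
  have hy1 : y ≠ 1 := fun h => hxr.2 (by
    have := congrArg (fun z => t * z * t⁻¹) h
    simpa [hydef, mul_assoc] using this)
  have hA := S.thick_omega hqp hd Q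
  have hle : centralizer ({y} : Set G) ≤ M := S.bigAt_le_of_thick hqp hM (S.centralizer_ne_top hy1)
    hA le_rfl fun a ha => mem_centralizer_singleton_iff.mpr
      (S.hyp.comm hH.2.1 (hQH (omega_le q _ ha)) hy).eq
  intro c hc
  have := mem_centralizer_singleton_iff.mp hc
  have h1 : t⁻¹ * c * t ∈ M := hle (mem_centralizer_singleton_iff.mpr (by
    calc t⁻¹ * c * t * y = t⁻¹ * (c * x) * t := by rw [hydef]; group
      _ = t⁻¹ * (x * c) * t := by rw [this]
      _ = y * (t⁻¹ * c * t) := by rw [hydef]; group))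
  simpa [mul_assoc] using mul_mem (mul_mem ht h1) (inv_mem ht)

theorem bigAt_eq (hqp : q ≠ p) (hd : q ∣ Nat.card G) (hM : BigAt q Q M) {r : ℕ} [hrf : Fact r.Prime]
    (hrp : r ≠ p) {R : Sylow r G} {M' : Subgroup G} (hM' : BigAt r R M') {x : G} (hx : x ∈ M)
    (hxo : orderOf x = r) (hxR : x ∈ (R : Subgroup G)) : M = M' := by
  haveI := S.finite
  haveI := S.factP
  have hdr : r ∣ Nat.card G := hxo ▸ orderOf_dvd_natCard x
  have hxr : PReg p x := by
    refine ⟨hxo ▸ (Nat.coprime_primes hrf.out S.hprime).mpr hrp, fun h => ?_⟩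
    rw [h, orderOf_one] at hxo
    exact hrf.out.one_lt.ne hxo
  have hRM : (R : Subgroup G) ≤ M := fun z hz => S.bigAt_centralizer_le hqp hd hM hx hxr
    (mem_centralizer_singleton_iff.mpr
      (S.hyp.comm (S.coprime_of_isPGroup hrf.out hrp R.2) hz hxR).eq)
  have h1 : M ≤ M' := S.bigAt_le_of_thick hrp hM' hM.ne_top (S.thick_omega hrp hdr R) le_rfl
    ((omega_le r _).trans hRM)
  refine le_antisymm h1 (S.bigAt_le_of_thick hqp hM hM'.ne_top (S.thick_omega hqp hd Q) le_rfl ?_)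
  exact (omega_le q _).trans ((S.sylow_le hqp hM).trans h1)

end Std

namespace Std

variable (S : Std p G)
include S

theorem exists_big {x : G} (hx : PReg p x) :
    ∃ M, Big p M ∧ x ∈ M ∧ centralizer ({x} : Set G) ≤ M := by
  haveI := S.finite
  obtain ⟨r, k, hr, hrp, ho⟩ := exists_prime_pow hx S.hprime
  haveI := Fact.mk hr
  obtain ⟨R, hR⟩ := exists_sylow_mem ho
  have hd : r ∣ Nat.card G := ho ▸ orderOf_dvd_natCard _
  obtain ⟨M, hM⟩ := S.exists_bigAt hrp hd R
  have hle : centralizer ({x} : Set G) ≤ M := fun c hc => by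
    refine hM.cent (x ^ k) (mem_omega_of hR (by rw [← ho]; exact pow_orderOf_eq_one _))
      (fun h => hr.one_lt.ne (by rw [h, orderOf_one] at ho; exact ho)) ?_
    exact mem_centralizer_singleton_iff.mpr (Commute.pow_right (mem_centralizer_singleton_iff.mp hc) k : Commute c (x ^ k))
  exact ⟨M, ⟨r, inferInstance, R, hrp, hd, hM⟩, hle (mem_centralizer_singleton_iff.mpr rfl), hle⟩

theorem big_ne_top {M : Subgroup G} (hM : Big p M) : M ≠ ⊤ := by
  obtain ⟨q, hq, Q, -, -, hM⟩ := hM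
  exact hM.ne_top

theorem big_eq_bigAt {M : Subgroup G} (hM : Big p M) {x : G} (hx : x ∈ M) {r : ℕ} [Fact r.Prime]
    (hrp : r ≠ p) (hxo : orderOf x = r) {R : Sylow r G} (hR : x ∈ (R : Subgroup G)) :
    BigAt r R M := by
  haveI := S.finite
  obtain ⟨q, hq, Q, hqp, hd, hM⟩ := hM
  obtain ⟨M', hM'⟩ := S.exists_bigAt hrp (hxo ▸ orderOf_dvd_natCard x) R
  rwa [S.bigAt_eq hqp hd hM hrp hM' hx hxo hR]

theorem big_unique {M M' : Subgroup G} (hM : Big p M) (hM' : Big p M') {x : G} (hx : x ∈ M)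
    (hx' : x ∈ M') (hxr : PReg p x) : M = M' := by
  haveI := S.finite
  obtain ⟨r, k, hr, hrp, ho⟩ := exists_prime_pow hxr S.hprime
  haveI := Fact.mk hr
  obtain ⟨R, hR⟩ := exists_sylow_mem ho
  obtain ⟨q, hq, Q, hqp, hd, hM⟩ := hM
  exact S.bigAt_eq hqp hd hM hrp (S.big_eq_bigAt hM' (pow_mem hx' k) hrp ho hR) (pow_mem hx k) ho hR

theorem big_centralizer_le {M : Subgroup G} (hM : Big p M) {x : G} (hx : x ∈ M) (hxr : PReg p x) :
    centralizer ({x} : Set G) ≤ M := by
  obtain ⟨q, hq, Q, hqp, hd, hM⟩ := hM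
  exact S.bigAt_centralizer_le hqp hd hM hx hxr

theorem big_mem_of_conj {M : Subgroup G} (hM : Big p M) {x g : G} (hx : x ∈ M) (hxr : PReg p x)
    (hg : g * x * g⁻¹ ∈ M) : g ∈ M := by
  haveI := S.finite
  obtain ⟨r, k, hr, hrp, ho⟩ := exists_prime_pow hxr S.hprime
  haveI := Fact.mk hr
  obtain ⟨R, hR⟩ := exists_sylow_mem ho
  refine S.mem_of_conj hrp (S.big_eq_bigAt hM (pow_mem hx k) hrp ho hR)
    (mem_omega_of hR (by rw [← ho]; exact pow_orderOf_eq_one _))
    (fun h => hr.one_lt.ne (by rw [h, orderOf_one] at ho; exact ho)) ?_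
  rw [← conj_pow]
  exact pow_mem hg k

theorem thick_preg {q : ℕ} {B : Subgroup G} (hB : Thick p q B) {b : G} (hb : b ∈ B) (hb1 : b ≠ 1) :
    PReg p b := by
  haveI := S.finite
  exact ⟨coprime_orderOf (hB.coprime S.hprime) hb, hb1⟩

theorem big_le_of_thick {M : Subgroup G} (hM : Big p M) {T : Subgroup G} (hT : T ≠ ⊤) {q : ℕ}
    {B : Subgroup G} (hB : Thick p q B) (hBM : B ≤ M) (hBT : B ≤ T) : T ≤ M := by
  haveI := S.finite
  haveI := Fact.mk hB.prime
  obtain ⟨Q, hQ⟩ := (elem_isPGroup hB.elem).exists_le_sylow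
  obtain ⟨b, hb, hb1⟩ := hB.exists_ne_one
  exact S.bigAt_le_of_thick hB.ne
    (S.big_eq_bigAt hM (hBM hb) hB.ne (orderOf_eq_prime (hB.elem.2 b hb) hb1) (hQ hb)) hT hB
    (fun y hy => mem_omega_of (hQ hy) (hB.elem.2 y hy)) hBT

theorem big_thick {M : Subgroup G} (hM : Big p M) : ∃ q B, Thick p q B ∧ B ≤ M := by
  obtain ⟨q, hq, Q, hqp, hd, hM⟩ := hM
  exact ⟨q, _, S.thick_omega hqp hd Q, (omega_le q _).trans (S.sylow_le hqp hM)⟩

theorem big_normalizer {M : Subgroup G} (hM : Big p M) {g : G}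
    (hg : g ∈ normalizer (M : Set G)) : g ∈ M := by
  obtain ⟨q, B, hB, hBM⟩ := S.big_thick hM
  haveI := S.finite
  obtain ⟨b, hb, hb1⟩ := hB.exists_ne_one
  exact S.big_mem_of_conj hM (hBM hb) (S.thick_preg hB hb hb1)
    ((mem_normalizer_iff.mp hg b).mp (hBM hb))

theorem big_conj {M : Subgroup G} (hM : Big p M) (g : G) : Big p (MulAut.conj g • M) := by
  haveI := S.finite
  obtain ⟨q, hq, Q, hqp, hd, hM⟩ := hM
  haveI := S.sylow_comm hq.out hqp Q
  haveI := S.sylow_comm hq.out hqp (g • Q)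
  have hom : ∀ a, a ∈ omega q ((g • Q : Sylow q G) : Subgroup G) →
      g⁻¹ * a * g ∈ omega q (Q : Subgroup G) := by
    intro a ha
    obtain ⟨haQ, haq⟩ := mem_omega.mp ha
    rw [Sylow.coe_subgroup_smul] at haQ
    obtain ⟨b, hb, hbe⟩ := haQ
    have hbe' : g * b * g⁻¹ = a := hbe
    have : g⁻¹ * a * g = b := by rw [← hbe']; group
    rw [this]
    refine mem_omega_of hb ?_
    rw [← hbe', conj_pow, mul_inv_eq_one, mul_eq_left] at haq
    exact haq
  have hom' : ∀ b, b ∈ omega q (Q : Subgroup G) →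
      g * b * g⁻¹ ∈ omega q ((g • Q : Sylow q G) : Subgroup G) := by
    intro b hb
    obtain ⟨hbQ, hbq⟩ := mem_omega.mp hb
    refine mem_omega_of ?_ (by rw [conj_pow, hbq, mul_one, mul_inv_cancel])
    rw [Sylow.coe_subgroup_smul]
    exact smul_mem_pointwise_smul b (MulAut.conj g) _ hbQ
  have hmem : ∀ c, g⁻¹ * c * g ∈ M → c ∈ MulAut.conj g • M := fun c hc => by
    have h : MulAut.conj g • (g⁻¹ * c * g) = c := by
      simp only [MulAut.smul_def, MulAut.conj_apply]; group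
    exact h ▸ smul_mem_pointwise_smul _ (MulAut.conj g) M hc
  refine ⟨q, hq, g • Q, hqp, hd, ⟨fun h => hM.ne_top ?_, fun n hn => hmem n (hM.norm ?_),
    fun a ha ha1 c hc => hmem c (hM.cent _ (hom a ha) ?_ ?_)⟩⟩
  · refine eq_top_iff.mpr fun x _ => ?_
    have hx : MulAut.conj g • x ∈ MulAut.conj g • M := h ▸ mem_top _
    exact smul_mem_pointwise_smul_iff.mp hx
  · refine mem_normalizer_of_conj fun b hb => ?_
    have := hom _ ((mem_normalizer_iff.mp hn _).mp (hom' b hb))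
    convert this using 1
    group
  · intro h
    exact ha1 (by simpa [mul_assoc] using congrArg (fun z => g * z * g⁻¹) h)
  · have hca := mem_centralizer_singleton_iff.mp hc
    refine mem_centralizer_singleton_iff.mpr ?_
    calc g⁻¹ * c * g * (g⁻¹ * a * g) = g⁻¹ * (c * a) * g := by group
      _ = g⁻¹ * (a * c) * g := by rw [hca]
      _ = g⁻¹ * a * g * (g⁻¹ * c * g) := by group

theorem eq_of_normalizes {T H : Subgroup G} (hH : IsHall p T H) (hT : T ≠ ⊤) {m : G} (hm : m ∈ T)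
    (hmn : m ∈ normalizer (H : Set G)) (hmo : (orderOf m).Coprime p) : m ∈ H := by
  haveI := S.finite
  haveI := S.factP
  obtain ⟨hHT, hHc, k, hk⟩ := hH
  set T' := T ⊓ normalizer (H : Set G) with hT'
  have hle : H ≤ T' := le_inf hHT le_normalizer
  obtain ⟨d, hd⟩ := card_dvd_of_le hle
  have hdp : d ∣ p ^ k := Nat.dvd_of_mul_dvd_mul_left Nat.card_pos
    (hk ▸ hd ▸ card_dvd_of_le (inf_le_left : T' ≤ T))
  obtain ⟨j, -, hj⟩ := (Nat.dvd_prime_pow S.hprime).mp hdp
  have hT'top : T' ≠ ⊤ := fun h => hT (top_le_iff.mp (h ▸ (inf_le_left : T' ≤ T)))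
  obtain ⟨t, ht, htm⟩ := S.hall_conj hT'top ⟨hle, hHc, j, hj ▸ hd⟩ (K := zpowers m)
    (zpowers_le.mpr ⟨hm, hmn⟩) (coprime_zpowers.mpr hmo)
  have := (mem_normalizer_iff.mp ht.2 _).mp (htm m (mem_zpowers m))
  simpa [mul_assoc] using this

/-- Transfer: no nontrivial element of a Hall subgroup is fixed by the `p`-elements normalising it. -/
theorem transfer_fix {M : Subgroup G} (hM : Big p M) {H : Subgroup G} (hH : IsHall p M H) {x : G}
    (hx : x ∈ H) (hfix : ∀ n ∈ M ⊓ normalizer (H : Set G), PEl p n → Commute n x) : x = 1 := by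
  haveI := S.finite
  haveI := S.factP
  by_contra hx1
  have hMtop := S.big_ne_top hM
  obtain ⟨r, k, hr, hrp, ho⟩ := exists_prime_pow (p := p) ⟨coprime_orderOf hH.2.1 hx, hx1⟩ S.hprime
  haveI := Fact.mk hr
  set y := x ^ k with hy
  have hyH : y ∈ H := pow_mem hx k
  have hyM : y ∈ M := hH.1 hyH
  obtain ⟨R₁, hR₁⟩ := exists_sylow_mem ho
  obtain ⟨t, ht, htR⟩ := S.hall_conj hMtop hH (S.sylow_le hrp (S.big_eq_bigAt hM hyM hrp ho hR₁))
    (S.coprime_of_isPGroup hr hrp R₁.2)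
  set R := t⁻¹ • R₁ with hRdef
  have hRH : (R : Subgroup G) ≤ H := by
    rintro z hz
    rw [hRdef, Sylow.coe_subgroup_smul] at hz
    obtain ⟨w, hw, hwe⟩ := hz
    have hwe' : t⁻¹ * w * t⁻¹⁻¹ = z := hwe
    rw [inv_inv] at hwe'
    exact hwe' ▸ htR w hw
  have hy1 : y ≠ 1 := fun h => hr.one_lt.ne (by rw [h, orderOf_one] at ho; exact ho)
  have hyR : y ∈ (R : Subgroup G) := mem_sylow_of_commute R (k := 1)
    (by rw [pow_one, ← ho]; exact pow_orderOf_eq_one _) fun z hz => S.hyp.comm hH.2.1 (hRH hz) hyH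
  have hB := S.big_eq_bigAt hM hyM hrp ho hyR
  haveI := S.sylow_comm hr hrp R
  have hcen : ∀ n ∈ normalizer ((R : Subgroup G) : Set G), Commute n y := by
    intro n hn
    have hnM : n ∈ M := hB.norm (normalizer_le_omega _ hn)
    obtain ⟨v, hv, m, hm, rfl⟩ := (S.structure_hall hMtop hH).2.1 n hnM
    have hmR : ∀ z ∈ (R : Subgroup G), m * z * m⁻¹ ∈ (R : Subgroup G) := by
      intro z hz
      have hmz : m * z * m⁻¹ ∈ H := (mem_normalizer_iff.mp hm.2 z).mp (hRH hz)
      obtain ⟨e, he⟩ := R.2 ⟨z, hz⟩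
      refine mem_sylow_of_commute R (k := e) ?_ fun w hw => S.hyp.comm hH.2.1 (hRH hw) hmz
      have he' : z ^ r ^ e = 1 := by simpa using congrArg Subtype.val he
      rw [conj_pow, he', mul_one, mul_inv_cancel]
    have hmN : m ∈ normalizer ((R : Subgroup G) : Set G) := mem_normalizer_of_conj hmR
    have hvN : v ∈ normalizer ((R : Subgroup G) : Set G) := by
      simpa using mul_mem hn (inv_mem hmN)
    have hvy : Commute v y := by
      have h1 : v * y * v⁻¹ * y⁻¹ ∈ (R : Subgroup G) :=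
        mul_mem ((mem_normalizer_iff.mp hvN y).mp hyR) (inv_mem hyR)
      have h2 : v * y * v⁻¹ * y⁻¹ ∈ op p M := by
        have h3 := (mem_normalizer_iff.mp (op_normal p M hyM) v⁻¹).mp (inv_mem hv)
        simpa [mul_assoc] using mul_mem hv h3
      have := coprime_pel (pel_of_mem (op_isPGroup M) h2)
        (coprime_orderOf (S.coprime_of_isPGroup hr hrp R.2) h1)
      exact mul_inv_eq_iff_eq_mul.mp (mul_inv_eq_one.mp this)
    obtain ⟨i, j, hij, hi, hj⟩ := exists_parts S.hprime m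
    have h1 : Commute (m ^ i) y := (hfix _ (pow_mem hm i) hi).pow_right k
    have h2 : Commute (m ^ j) y := S.hyp.comm hH.2.1
      (S.eq_of_normalizes hH hMtop (pow_mem hm.1 j) (pow_mem hm.2 j) hj) hyH
    exact hvy.mul_left (hij ▸ h1.mul_left h2)
  set N := normalizer ((R : Subgroup G) : Set G) with hN
  have hfoc : (R : Subgroup G) = ⁅(R : Subgroup G), N⁆ := by
    rw [hN, ← Transfer.focalSubgroup_eq_commutator_normalizer_of_abelian R
      (S.sylow_comm hr hrp R), ← Subgroup.commutator_inf_eq_focalSubgroup R,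
      S.commutator_eq_top, top_inf_eq]
  have hyc : y ∈ (commutator ↥N).map N.subtype := by
    have h : y ∈ ⁅(R : Subgroup G), N⁆ := hfoc ▸ hyR
    rw [map_subtype_commutator]
    exact commutator_mono le_normalizer le_rfl h
  obtain ⟨y', hy'c, hy'e⟩ := hyc
  have hab : IsMulCommutative ↥((R.subtype le_normalizer : Sylow r ↥N) : Subgroup ↥N) := by
    rw [Sylow.coe_subtype]
    exact ⟨⟨fun a b => Subtype.ext (Subtype.ext
      (S.hyp.comm (S.coprime_of_isPGroup hr hrp R.2) a.2 b.2).eq)⟩⟩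
  have hbot := Transfer.inf_commutator_inf_center_eq_bot hab
    (Sylow.card_coprime_index (R.subtype le_normalizer : Sylow r ↥N))
  have hmem : y' ∈ ((R.subtype le_normalizer : Sylow r ↥N) : Subgroup ↥N) ⊓ commutator ↥N ⊓
      center ↥N := by
    refine ⟨⟨?_, hy'c⟩, mem_center_iff.mpr fun z => Subtype.ext ?_⟩
    · show y' ∈ ((R.subtype le_normalizer : Sylow r ↥N) : Subgroup ↥N)
      rw [Sylow.coe_subtype, mem_subgroupOf, show (y' : G) = y from hy'e]
      exact hyR
    · have h : (y' : G) = y := hy'e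
      push_cast
      rw [h]
      exact (hcen z z.2).eq
  rw [hbot, mem_bot] at hmem
  exact hy1 (by rw [← hy'e, hmem]; rfl)

end Std

end Cfsg.Agent.AbExp
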