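import Cfsg.Agent.AbExp.Types

/-!
Counting elements of order prime to `p` through a subgroup controlling fusion of `p`-elements.
-/

set_option autoImplicit false
set_option linter.all false
set_option maxHeartbeats 400000

open Subgroup
open scoped Pointwise

namespace Cfsg.Agent.AbExp

variable {G : Type*} [Group G] {p : ℕ}

/-- Number of elements of order prime to `p` in a subgroup. -/
noncomputable def nreg (p : ℕ) (T : Subgroup G) : ℕ :=
  Nat.card {x : G // x ∈ T ∧ (orderOf x).Coprime p}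

theorem isPiElem_of_pel [Fact p.Prime] {a : G} (ha : PEl p a) :
    FG78.IsPiElem ({p} : Set ℕ) a := by
  intro q hq hd
  obtain ⟨k, hk⟩ := ha
  exact (Nat.prime_dvd_prime_iff_eq hq (Fact.out : p.Prime)).mp
    (hq.dvd_of_dvd_pow (hd.trans (orderOf_dvd_of_pow_eq_one hk)))

theorem isPiElem_of_coprime {a : G} (ha : (orderOf a).Coprime p) :
    FG78.IsPiElem ({p} : Set ℕ)ᶜ a := by
  intro q hq hd hqp
  rw [Set.mem_singleton_iff] at hqp
  subst hqp
  exact hq.ne_one (Nat.Coprime.eq_one_of_dvd (ha.coprime_dvd_left hd).symm dvd_rfl |>.symm ▸ rfl)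

theorem pel_piPart [Finite G] [Fact p.Prime] (g : G) : PEl p (FG78.piPart ({p} : Set ℕ) g) := by
  refine ⟨(orderOf (FG78.piPart ({p} : Set ℕ) g)).primeFactorsList.length, ?_⟩
  have he := Nat.eq_prime_pow_of_unique_prime_dvd (orderOf_pos (FG78.piPart ({p} : Set ℕ) g)).ne'
    (p := p) fun hq hd => FG78.isPiElem_piPart ({p} : Set ℕ) g _ hq hd
  rw [← he, pow_orderOf_eq_one]

theorem coprime_piPart' [Finite G] [Fact p.Prime] (g : G) :
    (orderOf (FG78.piPart' ({p} : Set ℕ) g)).Coprime p := by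
  refine ((Fact.out : p.Prime).coprime_iff_not_dvd.mpr fun hd => ?_).symm
  exact FG78.isPiElem_piPart' ({p} : Set ℕ) g p Fact.out hd rfl

/-- Decomposition into `p`-part and `p'`-part. -/
noncomputable def partsEquiv [Finite G] [Fact p.Prime] (T : Subgroup G) :
    ↥T ≃ Σ y : {y : G // y ∈ T ∧ PEl p y},
      {x : G // x ∈ T ⊓ centralizer ({(y : G)} : Set G) ∧ (orderOf x).Coprime p} where
  toFun g := ⟨⟨FG78.piPart ({p} : Set ℕ) (g : G), FG78.piPart_mem _ _ g.2, pel_piPart _⟩,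
    ⟨FG78.piPart' ({p} : Set ℕ) (g : G), ⟨FG78.piPart'_mem _ _ g.2,
      mem_centralizer_singleton_iff.mpr (FG78.commute_piPart_piPart' _ _).symm.eq⟩,
      coprime_piPart' _⟩⟩
  invFun s := ⟨(s.1 : G) * (s.2 : G), T.mul_mem s.1.2.1 s.2.2.1.1⟩
  left_inv g := Subtype.ext (FG78.piPart_mul_piPart' _ _)
  right_inv s := by
    obtain ⟨⟨y, hy⟩, ⟨x, hx⟩⟩ := s
    have hc : Commute y x := (mem_centralizer_singleton_iff.mp hx.1.2).symm
    obtain ⟨h1, h2⟩ := FG78.piPart_unique (π := ({p} : Set ℕ)) hc (isPiElem_of_pel hy.2)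
      (isPiElem_of_coprime hx.2) rfl
    exact Sigma.subtype_ext (Subtype.ext h1) h2

theorem card_eq_sum [Finite G] [Fact p.Prime] (T : Subgroup G)
    [Fintype {y : G // y ∈ T ∧ PEl p y}] :
    Nat.card ↥T = ∑ y : {y : G // y ∈ T ∧ PEl p y},
      nreg p (T ⊓ centralizer ({(y : G)} : Set G)) := by
  rw [Nat.card_congr (partsEquiv (p := p) T), Nat.card_sigma]
  rfl

theorem one_le_nreg [Finite G] (T : Subgroup G) : 1 ≤ nreg p T := by
  haveI : Nonempty {x : G // x ∈ T ∧ (orderOf x).Coprime p} :=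
    ⟨⟨1, T.one_mem, by rw [orderOf_one]; exact Nat.coprime_one_left p⟩⟩
  exact Nat.card_pos

theorem mem_conj_smul_iff {g x : G} {M : Subgroup G} :
    x ∈ MulAut.conj g • M ↔ g⁻¹ * x * g ∈ M := by
  rw [mem_pointwise_smul_iff_inv_smul_mem]
  simp [MulAut.smul_def, mul_assoc]

theorem nreg_conj (g : G) (T : Subgroup G) : nreg p (MulAut.conj g • T) = nreg p T := by
  refine Nat.card_congr ?_
  refine (MulAut.conj g).symm.toEquiv.subtypeEquiv fun x => ?_
  simp only [MulEquiv.toEquiv_eq_coe, EquivLike.coe_coe, MulEquiv.orderOf_eq]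
  rw [mem_conj_smul_iff]
  simp [MulAut.conj_symm_apply, mul_assoc]

theorem card_conj (g : G) (T : Subgroup G) : Nat.card ↥(MulAut.conj g • T) = Nat.card ↥T :=
  (Nat.card_congr (Subgroup.equivSMul (MulAut.conj g) T).toEquiv).symm

theorem centralizer_smul (g y : G) : MulAut.conj g • centralizer ({y} : Set G) =
    centralizer ({g * y * g⁻¹} : Set G) := by
  rw [← conj_centralizer]
  rfl

theorem smul_eq_self [Finite G] {M : Subgroup G} {m : G} (hm : m ∈ M) : MulAut.conj m • M = M := by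
  ext x
  rw [mem_conj_smul_iff]
  exact ⟨fun h => by simpa [mul_assoc] using M.mul_mem (M.mul_mem hm h) (M.inv_mem hm),
    fun h => M.mul_mem (M.mul_mem (M.inv_mem hm) h) hm⟩

/-- The counting identity. -/
theorem count_identity [Finite G] [Fact p.Prime] (M0 : Subgroup G) (P : Sylow p G)
    (hP : (P : Subgroup G) ≤ M0)
    (hfus : ∀ y g : G, PEl p y → y ∈ M0 → g * y * g⁻¹ ∈ M0 → ∃ m ∈ M0, m * y * m⁻¹ = g * y * g⁻¹)
    (hloc : ∀ y ∈ M0, PEl p y → y ≠ 1 →
      nreg p (centralizer ({y} : Set G)) * Nat.card ↥(M0 ⊓ centralizer ({y} : Set G)) =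
        nreg p (M0 ⊓ centralizer ({y} : Set G)) * Nat.card ↥(centralizer ({y} : Set G))) :
    Nat.card ↥M0 * nreg p (⊤ : Subgroup G) = Nat.card G * nreg p M0 := by
  classical
  haveI := Fintype.ofFinite G
  set a : G → ℕ := fun z => nreg p (centralizer ({z} : Set G)) with hadef
  set b : G → ℕ := fun y => nreg p (M0 ⊓ centralizer ({y} : Set G)) with hbdef
  have h1 : ∀ T : Subgroup G, Nat.card ↥T = nreg p T +
      ∑ y ∈ Finset.univ.filter (fun y : G => y ∈ T ∧ PEl p y ∧ y ≠ 1),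
        nreg p (T ⊓ centralizer ({y} : Set G)) := by
    intro T
    rw [card_eq_sum (p := p) T]
    have e1 : (∑ y : {y : G // y ∈ T ∧ PEl p y}, nreg p (T ⊓ centralizer ({(y : G)} : Set G))) =
        ∑ y ∈ Finset.univ.filter (fun y : G => y ∈ T ∧ PEl p y),
          nreg p (T ⊓ centralizer ({y} : Set G)) :=
      (Finset.sum_subtype _ (fun y => by simp) fun y => nreg p (T ⊓ centralizer ({y} : Set G))).symm
    have h1m : (1 : G) ∈ Finset.univ.filter (fun y : G => y ∈ T ∧ PEl p y) := by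
      simp only [Finset.mem_filter, Finset.mem_univ, true_and]
      exact ⟨T.one_mem, 0, one_pow _⟩
    rw [e1, ← Finset.add_sum_erase _ _ h1m]
    congr 1
    · have : centralizer ({(1 : G)} : Set G) = ⊤ :=
        eq_top_iff.mpr fun x _ => mem_centralizer_singleton_iff.mpr (by simp)
      rw [this, inf_top_eq]
    · refine Finset.sum_congr ?_ fun _ _ => rfl
      ext y
      simp only [Finset.mem_erase, Finset.mem_filter, Finset.mem_univ, true_and]
      tauto
  set SG := Finset.univ.filter (fun y : G => y ∈ (⊤ : Subgroup G) ∧ PEl p y ∧ y ≠ 1) with hSG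
  set S0 := Finset.univ.filter (fun y : G => y ∈ M0 ∧ PEl p y ∧ y ≠ 1) with hS0
  have hG := h1 ⊤
  rw [Subgroup.card_top] at hG
  simp only [top_inf_eq] at hG
  have hM := h1 M0
  have hmaps : ∀ gy ∈ (Finset.univ : Finset G) ×ˢ S0, gy.1 * gy.2 * gy.1⁻¹ ∈ SG := by
    rintro ⟨g, y⟩ hgy
    simp only [hS0, hSG, Finset.mem_product, Finset.mem_filter, Finset.mem_univ, true_and] at hgy ⊢
    obtain ⟨-, ⟨k, hk⟩, hy1⟩ := hgy
    refine ⟨mem_top _, ⟨k, by rw [conj_pow, hk, mul_one, mul_inv_cancel]⟩, fun h => hy1 ?_⟩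
    simpa [mul_assoc] using congrArg (fun z => g⁻¹ * z * g) h
  have hfib : ∀ z ∈ SG, (∑ gy ∈ ((Finset.univ : Finset G) ×ˢ S0).filter
      (fun gy => gy.1 * gy.2 * gy.1⁻¹ = z), b gy.2) = Nat.card ↥M0 * a z := by
    intro z hz
    simp only [hSG, Finset.mem_filter, Finset.mem_univ, true_and] at hz
    obtain ⟨-, hzp, hz1⟩ := hz
    have hzg : IsPGroup p ↥(zpowers z) := by
      rintro ⟨w, hw⟩
      obtain ⟨k, hk⟩ := hzp
      obtain ⟨i, rfl⟩ := mem_zpowers_iff.mp hw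
      exact ⟨k, Subtype.ext (by
        rw [SubmonoidClass.coe_pow, ← zpow_natCast, ← zpow_mul, mul_comm, zpow_mul, zpow_natCast,
          hk, one_zpow, OneMemClass.coe_one])⟩
    obtain ⟨Q, hQ⟩ := hzg.exists_le_sylow
    obtain ⟨g1, hg1⟩ := MulAction.exists_smul_eq G P Q
    have hzQ := hQ (mem_zpowers z)
    rw [← hg1, Sylow.coe_subgroup_smul] at hzQ
    obtain ⟨y1, hy1P, hy1z⟩ := hzQ
    have hy1z' : g1 * y1 * g1⁻¹ = z := hy1z
    have hy1M : y1 ∈ M0 := hP hy1P
    have hy1p : PEl p y1 := by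
      obtain ⟨k, hk⟩ := hzp
      refine ⟨k, ?_⟩
      rw [← hy1z', conj_pow, mul_inv_eq_one, mul_eq_left] at hk
      exact hk
    have hy11 : y1 ≠ 1 := fun h => hz1 (by rw [← hy1z', h]; group)
    set C := centralizer ({y1} : Set G) with hC
    set C0 := M0 ⊓ C with hC0
    set F := ((Finset.univ : Finset G) ×ˢ S0).filter (fun gy => gy.1 * gy.2 * gy.1⁻¹ = z) with hF
    have hmem : ∀ gy : G × G, gy ∈ F ↔ gy.2 ∈ M0 ∧ gy.1 * gy.2 * gy.1⁻¹ = z := by
      intro gy
      simp only [hF, hS0, Finset.mem_filter, Finset.mem_product, Finset.mem_univ, true_and]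
      refine ⟨fun h => ⟨h.1.1, h.2⟩, fun h => ⟨⟨h.1, ?_, fun h' => hz1 ?_⟩, h.2⟩⟩
      · obtain ⟨k, hk⟩ := hzp
        refine ⟨k, ?_⟩
        rw [← h.2, conj_pow, mul_inv_eq_one, mul_eq_left] at hk
        exact hk
      · rw [← h.2, h']; group
    have hsec : ∀ gy : ↥F, ∃ m ∈ M0, m * y1 * m⁻¹ = gy.1.2 := by
      rintro ⟨⟨g, y⟩, hgy⟩
      obtain ⟨hy, he⟩ := (hmem _).mp hgy
      have hye : (g⁻¹ * g1) * y1 * (g⁻¹ * g1)⁻¹ = y := by
        calc (g⁻¹ * g1) * y1 * (g⁻¹ * g1)⁻¹ = g⁻¹ * (g1 * y1 * g1⁻¹) * g := by group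
          _ = g⁻¹ * (g * y * g⁻¹) * g := by rw [hy1z', he]
          _ = y := by group
      obtain ⟨m, hm, hme⟩ := hfus y1 (g⁻¹ * g1) hy1p hy1M (by rw [hye]; exact hy)
      exact ⟨m, hm, hme.trans hye⟩
    choose m hm hme using hsec
    have hcC : ∀ (gy : ↥F) (d : ↥C0), g1⁻¹ * gy.1.1 * m gy * d ∈ C := by
      intro gy d
      refine C.mul_mem (mem_centralizer_singleton_iff.mpr ?_) d.2.2
      obtain ⟨hy, he⟩ := (hmem _).mp gy.2
      calc g1⁻¹ * gy.1.1 * m gy * y1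
          = g1⁻¹ * (gy.1.1 * (m gy * y1 * (m gy)⁻¹) * gy.1.1⁻¹) * (gy.1.1 * m gy) := by group
        _ = g1⁻¹ * z * (gy.1.1 * m gy) := by rw [hme, he]
        _ = y1 * (g1⁻¹ * gy.1.1 * m gy) := by rw [← hy1z']; group
    let Φ : ↥F × ↥C0 → ↥M0 × ↥C := fun gd =>
      (⟨m gd.1 * gd.2, M0.mul_mem (hm gd.1) gd.2.2.1⟩,
        ⟨g1⁻¹ * gd.1.1.1 * m gd.1 * gd.2, hcC gd.1 gd.2⟩)
    have hΦ : Function.Bijective Φ := by
      constructor
      · rintro ⟨gy, d⟩ ⟨gy', d'⟩ he
        have h1 : m gy * d = m gy' * d' := congrArg (fun w => ((w.1 : ↥M0) : G)) he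
        have h2 : g1⁻¹ * gy.1.1 * m gy * d = g1⁻¹ * gy'.1.1 * m gy' * d' :=
          congrArg (fun w => ((w.2 : ↥C) : G)) he
        have hg : gy.1.1 = gy'.1.1 := by
          rw [mul_assoc, mul_assoc (g1⁻¹ * gy'.1.1), h1] at h2
          exact mul_left_cancel (mul_right_cancel h2)
        have hdy : ∀ e : ↥C0, (e : G) * y1 * (e : G)⁻¹ = y1 := fun e =>
          mul_inv_eq_iff_eq_mul.mpr (mem_centralizer_singleton_iff.mp e.2.2)
        have hy : gy.1.2 = gy'.1.2 := by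
          calc gy.1.2 = m gy * (d * y1 * (d : G)⁻¹) * (m gy)⁻¹ := by rw [hdy, hme]
            _ = (m gy * d) * y1 * (m gy * d)⁻¹ := by group
            _ = (m gy' * d') * y1 * (m gy' * d')⁻¹ := by rw [h1]
            _ = m gy' * (d' * y1 * (d' : G)⁻¹) * (m gy')⁻¹ := by group
            _ = gy'.1.2 := by rw [hdy, hme]
        obtain rfl : gy = gy' := Subtype.ext (Prod.ext hg hy)
        exact Prod.ext rfl (Subtype.ext (mul_left_cancel h1))
      · rintro ⟨⟨m', hm'⟩, ⟨c, hc⟩⟩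
        have hcy := mem_centralizer_singleton_iff.mp hc
        have hgy : (g1 * c * m'⁻¹, m' * y1 * m'⁻¹) ∈ F := by
          refine (hmem _).mpr ⟨M0.mul_mem (M0.mul_mem hm' hy1M) (M0.inv_mem hm'), ?_⟩
          calc g1 * c * m'⁻¹ * (m' * y1 * m'⁻¹) * (g1 * c * m'⁻¹)⁻¹
              = g1 * (c * y1) * c⁻¹ * g1⁻¹ := by group
            _ = g1 * (y1 * c) * c⁻¹ * g1⁻¹ := by rw [hcy]
            _ = z := by rw [← hy1z']; group
        set w : ↥F := ⟨_, hgy⟩
        have hd : (m w)⁻¹ * m' ∈ C := by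
          refine mem_centralizer_singleton_iff.mpr ?_
          have h := hme w
          calc (m w)⁻¹ * m' * y1 = (m w)⁻¹ * (m' * y1 * m'⁻¹) * m' := by group
            _ = (m w)⁻¹ * (m w * y1 * (m w)⁻¹) * m' := by rw [h]
            _ = y1 * ((m w)⁻¹ * m') := by group
        refine ⟨(w, ⟨(m w)⁻¹ * m', M0.mul_mem (M0.inv_mem (hm w)) hm', hd⟩), ?_⟩
        refine Prod.ext (Subtype.ext ?_) (Subtype.ext ?_)
        · show m w * ((m w)⁻¹ * m') = m'
          group
        · show g1⁻¹ * (g1 * c * m'⁻¹) * m w * ((m w)⁻¹ * m') = c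
          group
    have hN : F.card * Nat.card ↥C0 = Nat.card ↥M0 * Nat.card ↥C := by
      rw [← Nat.card_prod, ← Nat.card_congr (Equiv.ofBijective Φ hΦ), Nat.card_prod,
        Nat.card_eq_finsetCard]
    have hbc : ∀ gy ∈ F, b gy.2 = b y1 := by
      intro gy hgy
      have hm0 := hm ⟨gy, hgy⟩
      have he := hme ⟨gy, hgy⟩
      calc b gy.2 = nreg p (MulAut.conj (m ⟨gy, hgy⟩) • (M0 ⊓ C)) := by
            rw [smul_inf, smul_eq_self hm0, hC, centralizer_smul, he]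
        _ = b y1 := nreg_conj _ _
    have haz : a z = a y1 := by
      show nreg p (centralizer ({z} : Set G)) = nreg p (centralizer ({y1} : Set G))
      rw [← hy1z', ← centralizer_smul, nreg_conj]
    rw [Finset.sum_congr rfl hbc, Finset.sum_const, smul_eq_mul, haz]
    have hl := hloc y1 hy1M hy1p hy11
    refine Nat.eq_of_mul_eq_mul_right (Nat.card_pos (α := ↥C0)) ?_
    calc F.card * b y1 * Nat.card ↥C0 = b y1 * (F.card * Nat.card ↥C0) := by ring
      _ = Nat.card ↥M0 * (b y1 * Nat.card ↥C) := by rw [hN]; ring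
      _ = Nat.card ↥M0 * a y1 * Nat.card ↥C0 := by
          rw [show b y1 * Nat.card ↥C = a y1 * Nat.card ↥C0 from hl.symm]; ring
  have htot : Nat.card G * ∑ y ∈ S0, b y = Nat.card ↥M0 * ∑ z ∈ SG, a z := by
    have := Finset.sum_fiberwise_of_maps_to hmaps (fun gy => b gy.2)
    rw [Finset.sum_congr rfl hfib, ← Finset.mul_sum, Finset.sum_product] at this
    simp only [Finset.sum_const, Finset.card_univ, smul_eq_mul] at this
    rw [this, Nat.card_eq_fintype_card]
  have e1 : Nat.card G * Nat.card ↥M0 = Nat.card G * nreg p M0 + Nat.card G * ∑ y ∈ S0, b y := by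
    rw [← Nat.mul_add, ← hM]
  have e2 : Nat.card ↥M0 * Nat.card G =
      Nat.card ↥M0 * nreg p (⊤ : Subgroup G) + Nat.card ↥M0 * ∑ z ∈ SG, a z := by
    rw [← Nat.mul_add, ← hG]
  rw [htot] at e1
  rw [Nat.mul_comm] at e2
  exact Nat.add_right_cancel (e2.symm.trans e1)

end Cfsg.Agent.AbExp
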