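import Cfsg.Agent.AbExp.Count

/-!
The local condition for the counting identity.
-/

set_option autoImplicit false
set_option linter.all false
set_option maxHeartbeats 400000

open Subgroup
open scoped Pointwise

namespace Cfsg.Agent.AbExp

variable {G : Type*} [Group G] {p : ℕ}

theorem isPGroup_zpowers {y : G} (hy : PEl p y) : IsPGroup p ↥(zpowers y) := by
  rintro ⟨w, hw⟩
  obtain ⟨k, hk⟩ := hy
  obtain ⟨i, rfl⟩ := mem_zpowers_iff.mp hw
  exact ⟨k, Subtype.ext (by
    rw [SubmonoidClass.coe_pow, ← zpow_natCast, ← zpow_mul, mul_comm, zpow_mul, zpow_natCast,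
      hk, one_zpow, OneMemClass.coe_one])⟩

theorem nreg_eq_of [Finite G] {T K : Subgroup G} (hKT : K ≤ T) (hK : (Nat.card ↥K).Coprime p)
    (h : ∀ x ∈ T, (orderOf x).Coprime p → x ∈ K) : nreg p T = Nat.card ↥K :=
  Nat.card_congr (Equiv.subtypeEquivRight fun x =>
    ⟨fun hx => h x hx.1 hx.2, fun hx => ⟨hKT hx, coprime_orderOf hK hx⟩⟩)

theorem card_of_preg_sub [Finite G] [Fact p.Prime] {T K : Subgroup G} (hKT : K ≤ T)
    (hK : (Nat.card ↥K).Coprime p) (h : ∀ x ∈ T, (orderOf x).Coprime p → x ∈ K) :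
    ∃ k, Nat.card ↥T = Nat.card ↥K * p ^ k := by
  obtain ⟨m, k, hmk, hm⟩ := exists_split (p := p) (G := ↥T)
  refine ⟨k, ?_⟩
  have h1 : Nat.card ↥K ∣ m := (hK.pow_right k).dvd_of_dvd_mul_right (hmk ▸ card_dvd_of_le hKT)
  have hm0 : m ≠ 0 := fun h0 => by
    rw [h0, zero_mul] at hmk
    exact Nat.card_pos.ne' hmk
  have h2 : m ∣ Nat.card ↥K := by
    refine (Nat.factorization_prime_le_iff_dvd hm0 Nat.card_pos.ne').mp fun r hr => ?_
    haveI := Fact.mk hr
    rcases eq_or_ne r p with hrp | hrp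
    · subst hrp
      rw [Nat.factorization_eq_zero_of_not_dvd (hr.coprime_iff_not_dvd.mp hm.symm)]
      exact Nat.zero_le _
    · obtain ⟨R⟩ := (inferInstance : Nonempty (Sylow r ↥T))
      have hfac : (Nat.card ↥T).factorization r = m.factorization r := by
        rw [hmk, Nat.factorization_mul hm0 (pow_ne_zero _ (Fact.out : p.Prime).ne_zero),
          Finsupp.coe_add, Pi.add_apply, Nat.Prime.factorization_pow Fact.out,
          Finsupp.single_eq_of_ne hrp, add_zero]
      have hle : (R : Subgroup ↥T).map T.subtype ≤ K := by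
        rintro _ ⟨y, hy, rfl⟩
        refine h _ y.2 ?_
        obtain ⟨e, he⟩ := R.2 ⟨y, hy⟩
        have he' : (y : G) ^ r ^ e = 1 := by
          simpa using congrArg (fun z : ↥(R : Subgroup ↥T) => ((z : ↥T) : G)) he
        exact (((Nat.coprime_primes hr (Fact.out : p.Prime)).mpr hrp).pow_left e).coprime_dvd_left
          (orderOf_dvd_of_pow_eq_one he')
      refine (hr.pow_dvd_iff_le_factorization Nat.card_pos.ne').mp ?_
      rw [← hfac, ← R.card_eq_multiplicity]
      exact (card_map_of_injective T.subtype_injective) ▸ card_dvd_of_le hle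
  rw [hmk, Nat.dvd_antisymm h1 h2]

theorem mem_sylow_conj [Finite G] [Fact p.Prime] {M : Subgroup G} (P : Sylow p G)
    (hP : (P : Subgroup G) ≤ M) {y : G} (hy : y ∈ M) (hyp : PEl p y) :
    ∃ m ∈ M, m * y * m⁻¹ ∈ (P : Subgroup G) := by
  have hz : IsPGroup p ↥(zpowers (⟨y, hy⟩ : ↥M)) := by
    refine isPGroup_zpowers ?_
    obtain ⟨k, hk⟩ := hyp
    exact ⟨k, Subtype.ext (by simpa using hk)⟩
  obtain ⟨Y, hY⟩ := hz.exists_le_sylow
  obtain ⟨m, hm⟩ := MulAction.exists_smul_eq ↥M Y (P.subtype hP)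
  refine ⟨m, m.2, ?_⟩
  have : m * ⟨y, hy⟩ * m⁻¹ ∈ ((P.subtype hP : Sylow p ↥M) : Subgroup ↥M) := by
    rw [← hm, Sylow.coe_subgroup_smul]
    exact smul_mem_pointwise_smul _ (MulAut.conj m) _ (hY (mem_zpowers _))
  rw [Sylow.coe_subtype, mem_subgroupOf] at this
  exact this

namespace Std

variable (S : Std p G)
include S

theorem sylow_cent_dvd (M0 : Subgroup G) (P : Sylow p G) (hP : (P : Subgroup G) ≤ M0)
    (hfus : ∀ y g : G, PEl p y → y ∈ M0 → g * y * g⁻¹ ∈ M0 → ∃ m ∈ M0, m * y * m⁻¹ = g * y * g⁻¹)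
    {y : G} (hy : y ∈ M0) (hyp : PEl p y) :
    p ^ (Nat.card ↥(centralizer ({y} : Set G))).factorization p ∣
      Nat.card ↥(M0 ⊓ centralizer ({y} : Set G)) := by
  haveI := S.finite
  haveI := S.factP
  set C := centralizer ({y} : Set G) with hC
  obtain ⟨Y⟩ := (inferInstance : Nonempty (Sylow p ↥C))
  have hyY : (⟨y, mem_centralizer_singleton_iff.mpr rfl⟩ : ↥C) ∈ (Y : Subgroup ↥C) := by
    obtain ⟨k, hk⟩ := hyp
    exact mem_sylow_of_commute Y (k := k) (Subtype.ext (by simpa using hk))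
      fun z _ => Subtype.ext (mem_centralizer_singleton_iff.mp z.2)
  set Y' := (Y : Subgroup ↥C).map C.subtype with hY'
  obtain ⟨Q, hQ⟩ := (Y.2.map C.subtype : IsPGroup p ↥Y').exists_le_sylow
  obtain ⟨h, hh⟩ := MulAction.exists_smul_eq G P Q
  have hconj : ∀ z ∈ Y', h⁻¹ * z * h ∈ M0 := by
    intro z hz
    have := hQ hz
    rw [← hh, Sylow.coe_subgroup_smul] at this
    exact hP (mem_conj_smul_iff.mp this)
  have hyM : h⁻¹ * y * h⁻¹⁻¹ ∈ M0 := by rw [inv_inv]; exact hconj y ⟨_, hyY, rfl⟩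
  obtain ⟨m, hm, hme⟩ := hfus y h⁻¹ hyp hy hyM
  rw [inv_inv] at hme
  set c := h * m with hc
  have hcy : c * y * c⁻¹ = y := by
    rw [hc]
    calc h * m * y * (h * m)⁻¹ = h * (m * y * m⁻¹) * h⁻¹ := by group
      _ = y := by rw [hme]; group
  have hle : Y'.map (MulAut.conj c⁻¹).toMonoidHom ≤ M0 ⊓ C := by
    rintro _ ⟨z, hz, rfl⟩
    simp only [MulEquiv.toMonoidHom_eq_coe, MonoidHom.coe_coe, MulAut.conj_apply, inv_inv]
    refine mem_inf.mpr ⟨?_, ?_⟩
    · have : c⁻¹ * z * c = m⁻¹ * (h⁻¹ * z * h) * m := by rw [hc]; group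
      rw [this]
      exact M0.mul_mem (M0.mul_mem (M0.inv_mem hm) (hconj z hz)) hm
    · have hzC : z ∈ C := map_subtype_le _ hz
      have hcC : c ∈ C := mem_centralizer_singleton_iff.mpr (mul_inv_eq_iff_eq_mul.mp hcy)
      exact C.mul_mem (C.mul_mem (C.inv_mem hcC) hzC) hcC
  have := card_dvd_of_le hle
  rwa [card_map_of_injective (MulAut.conj c⁻¹).injective, hY',
    card_map_of_injective C.subtype_injective, Y.card_eq_multiplicity] at this

theorem loc_cond (M0 : Subgroup G) (P : Sylow p G) (hP : (P : Subgroup G) ≤ M0)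
    (hfus : ∀ y g : G, PEl p y → y ∈ M0 → g * y * g⁻¹ ∈ M0 → ∃ m ∈ M0, m * y * m⁻¹ = g * y * g⁻¹)
    (hconj : ∀ M, Big p M → ¬ NType p M → ∃ k : G, M = MulAut.conj k • M0 ∧ Big p M0)
    {y : G} (hy : y ∈ M0) (hyp : PEl p y) (hy1 : y ≠ 1) :
    nreg p (centralizer ({y} : Set G)) * Nat.card ↥(M0 ⊓ centralizer ({y} : Set G)) =
      nreg p (M0 ⊓ centralizer ({y} : Set G)) * Nat.card ↥(centralizer ({y} : Set G)) := by
  haveI := S.finite
  haveI := S.factP
  set C := centralizer ({y} : Set G) with hC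
  set C0 := M0 ⊓ C with hC0
  have hdvd : p ^ (Nat.card ↥C).factorization p ∣ Nat.card ↥C0 := S.sylow_cent_dvd M0 P hP hfus hy hyp
  by_cases hx : ∃ x ∈ C, PReg p x
  · obtain ⟨x, hxC, hxr⟩ := hx
    obtain ⟨M, hM, hxM, hCx⟩ := S.exists_big hxr
    have hxy : Commute x y := mem_centralizer_singleton_iff.mp hxC
    have hyM : y ∈ M := hCx (mem_centralizer_singleton_iff.mpr hxy.symm.eq)
    by_cases hN : NType p M
    · have hCM : C ≤ M := S.claimC hM hN hxM hxr hyM hyp hy1 hxy.symm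
      obtain ⟨H, hH, hn⟩ := hN
      have key : ∀ T : Subgroup G, T ≤ M →
          nreg p T = Nat.card ↥(T ⊓ H) ∧ ∃ k, Nat.card ↥T = Nat.card ↥(T ⊓ H) * p ^ k := by
        intro T hT
        have hK : (Nat.card ↥(T ⊓ H)).Coprime p :=
          hH.2.1.coprime_dvd_left (card_dvd_of_le inf_le_right)
        have h : ∀ z ∈ T, (orderOf z).Coprime p → z ∈ T ⊓ H := fun z hz hzo =>
          ⟨hz, S.preg_mem (S.big_ne_top hM) hH hn (hT hz) hzo⟩
        exact ⟨nreg_eq_of inf_le_left hK h, card_of_preg_sub inf_le_left hK h⟩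
      obtain ⟨hn1, k1, hk1⟩ := key C hCM
      obtain ⟨hn0, k0, hk0⟩ := key C0 (inf_le_right.trans hCM)
      have hf : ∀ (a k : ℕ), a ≠ 0 → a.Coprime p → (a * p ^ k).factorization p = k := by
        intro a k ha0 ha
        rw [Nat.factorization_mul ha0 (pow_ne_zero _ S.hprime.ne_zero), Finsupp.coe_add, Pi.add_apply,
          Nat.factorization_eq_zero_of_not_dvd (S.hprime.coprime_iff_not_dvd.mp ha.symm),
          Nat.Prime.factorization_pow S.hprime, Finsupp.single_eq_same, zero_add]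
      have hc1 : (Nat.card ↥(C ⊓ H)).Coprime p := hH.2.1.coprime_dvd_left (card_dvd_of_le inf_le_right)
      have hc0 : (Nat.card ↥(C0 ⊓ H)).Coprime p := hH.2.1.coprime_dvd_left (card_dvd_of_le inf_le_right)
      rw [hk1, hf _ _ Nat.card_pos.ne' hc1, hk0] at hdvd
      have h01 : k1 ≤ k0 := (Nat.pow_dvd_pow_iff_le_right S.hprime.one_lt).mp
        ((hc0.symm.pow_left k1).dvd_of_dvd_mul_left hdvd)
      have h10 : k0 ≤ k1 := by
        have h := card_dvd_of_le (inf_le_right : C0 ≤ C)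
        rw [hk1, hk0] at h
        exact (Nat.pow_dvd_pow_iff_le_right S.hprime.one_lt).mp
          ((hc1.symm.pow_left k0).dvd_of_dvd_mul_left ((dvd_mul_left _ _).trans h))
      obtain rfl := le_antisymm h10 h01
      rw [hn1, hn0, hk1, hk0]
      ring
    · obtain ⟨k, hk, hM0⟩ := hconj M hM hN
      rw [hk, mem_conj_smul_iff] at hyM hxM
      obtain ⟨m, hm, hme⟩ := hfus y k⁻¹ hyp hy (by rw [inv_inv]; exact hyM)
      rw [inv_inv] at hme
      set c := k * m with hc
      have hcy : c * y * c⁻¹ = y := by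
        rw [hc]
        calc k * m * y * (k * m)⁻¹ = k * (m * y * m⁻¹) * k⁻¹ := by group
          _ = y := by rw [hme]; group
      have hcC : c ∈ C := mem_centralizer_singleton_iff.mpr (mul_inv_eq_iff_eq_mul.mp hcy)
      set x' := c⁻¹ * x * c with hx'
      have hx'M : x' ∈ M0 := by
        have : x' = m⁻¹ * (k⁻¹ * x * k) * m := by rw [hx', hc]; group
        rw [this]
        exact M0.mul_mem (M0.mul_mem (M0.inv_mem hm) hxM) hm
      have hx'C : x' ∈ C := C.mul_mem (C.mul_mem (C.inv_mem hcC) hxC) hcC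
      have hx'o : orderOf x' = orderOf x := by
        have : x' = MulAut.conj c⁻¹ x := by rw [hx', MulAut.conj_apply, inv_inv]
        rw [this, MulEquiv.orderOf_eq]
      have hx'r : PReg p x' := ⟨hx'o ▸ hxr.1, fun h => hxr.2 (by
        rw [← orderOf_eq_one_iff, ← hx'o, h, orderOf_one])⟩
      obtain ⟨HC, hHC, hxHC⟩ := S.exists_hall (S.centralizer_ne_top hy1)
        (zpowers_le.mpr hx'C) (coprime_zpowers.mpr hx'r.1)
      have hHC0 : HC ≤ C0 := le_inf (fun z hz => S.big_centralizer_le hM0 hx'M hx'r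
        (mem_centralizer_singleton_iff.mpr
          (S.hyp.comm hHC.2.1 hz (hxHC (mem_zpowers x'))).eq)) hHC.1
      obtain ⟨-, hHCc, j, hj⟩ := hHC
      have hle : Nat.card ↥C ∣ Nat.card ↥C0 := by
        rw [hj]
        refine (hHCc.pow_right j).mul_dvd_of_dvd_of_dvd (card_dvd_of_le hHC0) ?_
        rw [hj, Nat.factorization_mul Nat.card_pos.ne' (pow_ne_zero _ S.hprime.ne_zero),
          Finsupp.coe_add, Pi.add_apply, Nat.factorization_eq_zero_of_not_dvd
            (S.hprime.coprime_iff_not_dvd.mp hHCc.symm),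
          Nat.Prime.factorization_pow S.hprime, Finsupp.single_eq_same, zero_add] at hdvd
        exact hdvd
      have heq : C0 = C := eq_of_le_of_card_ge inf_le_right (Nat.le_of_dvd Nat.card_pos hle)
      rw [heq]
  · push_neg at hx
    have htriv : ∀ z ∈ C, (orderOf z).Coprime p → z ∈ (⊥ : Subgroup G) := by
      intro z hz hzo
      by_contra hz1
      exact hx z hz ⟨hzo, fun h => hz1 (mem_bot.mpr h)⟩
    have hb : (Nat.card ↥(⊥ : Subgroup G)).Coprime p := by rw [card_bot]; exact Nat.coprime_one_left p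
    obtain ⟨k, hk⟩ := card_of_preg_sub bot_le hb htriv
    rw [card_bot, one_mul] at hk
    rw [hk, Nat.Prime.factorization_pow S.hprime, Finsupp.single_eq_same] at hdvd
    have heq : C0 = C := eq_of_le_of_card_ge inf_le_right (Nat.le_of_dvd Nat.card_pos (hk ▸ hdvd))
    rw [heq]

end Std

end Cfsg.Agent.AbExp
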