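import Cfsg.Agent.AbExp.Loc
import Cfsg.Agent.Lib.CharCore.Burnside

/-!
A finite group all of whose `p'`-subgroups are abelian of exponent dividing `p - 1` is solvable.
-/

set_option autoImplicit false
set_option linter.all false
set_option maxHeartbeats 400000

open Subgroup
open scoped Pointwise commutatorElement

namespace Cfsg.Agent.AbExp

variable {G : Type*} [Group G] {p : ℕ}

theorem sum_biUnion_le' {α β : Type*} [DecidableEq β] (s : Finset α) (t : α → Finset β) (f : β → ℕ) :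
    ∑ x ∈ s.biUnion t, f x ≤ ∑ a ∈ s, ∑ x ∈ t a, f x := by
  classical
  induction s using Finset.induction_on with
  | empty => simp
  | insert a s ha ih =>
    rw [Finset.biUnion_insert, Finset.sum_insert ha]
    have h := Finset.sum_union_inter (s₁ := t a) (s₂ := s.biUnion t) (f := f)
    omega

theorem card_orbit_mul [Finite G] [Fintype G] [DecidableEq (Subgroup G)] (M : Subgroup G)
    (hM : ∀ g, MulAut.conj g • M = M → g ∈ M) :
    ((Finset.univ : Finset G).image fun g => MulAut.conj g • M).card * Nat.card ↥M = Nat.card G := by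
  classical
  rw [Nat.card_eq_fintype_card (α := G), ← Finset.card_univ, Finset.card_eq_sum_card_fiberwise
    (f := fun g => MulAut.conj g • M) (t := (Finset.univ : Finset G).image fun g => MulAut.conj g • M)
    (fun g _ => Finset.mem_image_of_mem _ (Finset.mem_univ g))]
  rw [Finset.sum_const_nat (m := Nat.card ↥M)]
  intro N hN
  obtain ⟨g, -, rfl⟩ := Finset.mem_image.mp hN
  rw [← Fintype.card_subtype, ← Nat.card_eq_fintype_card]
  refine Nat.card_congr ⟨fun x => ⟨g⁻¹ * x.1, hM _ ?_⟩, fun m => ⟨g * m.1, ?_⟩,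
    fun x => Subtype.ext (by simp), fun m => Subtype.ext (by simp)⟩
  · rw [map_mul, mul_smul, x.2, map_inv, inv_smul_smul]
  · rw [map_mul, mul_smul, smul_eq_self m.2]

namespace Std

variable (S : Std p G)
include S

theorem big_stab {M : Subgroup G} (hM : Big p M) (g : G) (hg : MulAut.conj g • M = M) : g ∈ M := by
  haveI := S.finite
  refine S.big_normalizer hM (mem_normalizer_of_conj fun x hx => ?_)
  rw [← hg, mem_conj_smul_iff]
  simpa [mul_assoc] using hx

theorem not_isPGroup : ¬ IsPGroup p G := by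
  haveI := S.finite
  haveI := S.factP
  exact fun h => S.nonsolv (Coprime.isSolvable_of_isNilpotent' h.isNilpotent)

open Classical in
theorem preg_sum [Fintype G] [Fintype (Subgroup G)] :
    nreg p (⊤ : Subgroup G) = 1 + ∑ M ∈ (Finset.univ.filter fun M : Subgroup G => Big p M),
      (nreg p M - 1) := by
  classical
  haveI := S.finite
  have hf : ∀ T : Subgroup G, nreg p T = 1 +
      (Finset.univ.filter fun x : G => x ∈ T ∧ PReg p x).card := by
    intro T
    have h1 : nreg p T = (Finset.univ.filter fun x : G => x ∈ T ∧ (orderOf x).Coprime p).card := by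
      rw [nreg, Nat.card_eq_fintype_card, Fintype.card_subtype]
    have hm : (1 : G) ∈ Finset.univ.filter fun x : G => x ∈ T ∧ (orderOf x).Coprime p := by
      simp only [Finset.mem_filter, Finset.mem_univ, true_and]
      exact ⟨T.one_mem, by rw [orderOf_one]; exact Nat.coprime_one_left p⟩
    rw [h1, ← Finset.card_erase_add_one hm, add_comm]
    congr 1
    refine congrArg Finset.card ?_
    ext x
    rw [Finset.mem_erase, Finset.mem_filter, Finset.mem_filter]
    unfold PReg
    constructor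
    · exact fun h => ⟨h.2.1, h.2.2.1, h.2.2.2, h.1⟩
    · exact fun h => ⟨h.2.2.2, h.1, h.2.1, h.2.2.1⟩
  rw [hf ⊤]
  congr 1
  rw [Finset.sum_congr rfl (g := fun M => (Finset.univ.filter fun x : G => x ∈ M ∧ PReg p x).card)
    (fun M _ => by rw [hf M]; omega), ← Finset.card_biUnion]
  · refine congrArg Finset.card ?_
    ext x
    simp only [Finset.mem_biUnion, Finset.mem_filter, Finset.mem_univ, true_and, mem_top]
    constructor
    · intro hx
      obtain ⟨M, hM, hxM, -⟩ := S.exists_big hx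
      exact ⟨M, hM, hxM, hx⟩
    · rintro ⟨M, -, -, hx⟩
      exact hx
  · intro M hM N hN hne
    rw [Finset.mem_coe, Finset.mem_filter] at hM hN
    show Disjoint _ _
    rw [Finset.disjoint_left]
    intro x h1 h2
    simp only [Finset.mem_filter, Finset.mem_univ, true_and] at h1 h2
    exact hne (S.big_unique hM.2 hN.2 h1.1 h2.1 h1.2)

theorem ntype_facts {M : Subgroup G} (hM : Big p M) (hN : NType p M) :
    ∃ h, 2 ≤ h ∧ nreg p M = h ∧ h * p ∣ Nat.card ↥M ∧ ∃ k, Nat.card ↥M = h * p ^ k := by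
  haveI := S.finite
  haveI := S.factP
  obtain ⟨H, hH, hn⟩ := hN
  have hpreg := fun x (hx : x ∈ M) (ho : (orderOf x).Coprime p) =>
    S.preg_mem (S.big_ne_top hM) hH hn hx ho
  refine ⟨Nat.card ↥H, ?_, nreg_eq_of hH.1 hH.2.1 hpreg, ?_, hH.2.2⟩
  · obtain ⟨q, B, hB, hBM⟩ := S.big_thick hM
    obtain ⟨b, hb, hb1⟩ := hB.exists_ne_one
    have hbH := hpreg b (hBM hb) (S.thick_preg hB hb hb1).1
    exact (one_lt_card_iff_ne_bot H).mpr fun h => hb1 (mem_bot.mp (h ▸ hbH))
  · obtain ⟨k, hk⟩ := hH.2.2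
    rcases Nat.eq_zero_or_pos k with hk0 | hk0
    · exfalso
      subst hk0
      rw [pow_zero, mul_one] at hk
      obtain ⟨q, B, hB, hBM⟩ := S.big_thick hM
      obtain ⟨b, hb, hb1⟩ := hB.exists_ne_one
      refine hb1 (S.transfer_fix hM hH (hpreg b (hBM hb) (S.thick_preg hB hb hb1).1) fun n hn' hnp => ?_)
      have : n = 1 := coprime_pel hnp (coprime_orderOf
        (show (Nat.card ↥M).Coprime p from hk ▸ hH.2.1) hn'.1)
      rw [this]; exact Commute.one_left b
    · rw [hk]
      exact mul_dvd_mul_left _ (dvd_pow_self p hk0.ne')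

theorem case_ctrl {M0 : Subgroup G} (hM0 : Big p M0) (hN0 : ¬ NType p M0) : False := by
  classical
  haveI := S.finite
  haveI := S.factP
  haveI := Fintype.ofFinite G
  haveI : Fintype (Subgroup G) := Fintype.ofFinite _
  obtain ⟨P, hP, hL, x0, hx0, hx0r⟩ := S.exists_ctrl hM0 hN0
  have hfus : ∀ y g : G, PEl p y → y ∈ M0 → g * y * g⁻¹ ∈ M0 →
      ∃ m ∈ M0, m * y * m⁻¹ = g * y * g⁻¹ := by
    intro y g hyp hy hgy
    obtain ⟨m1, hm1, h1⟩ := mem_sylow_conj P hP hy hyp
    obtain ⟨m2, hm2, h2⟩ := mem_sylow_conj P hP hgy (by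
      obtain ⟨k, hk⟩ := hyp
      exact ⟨k, by rw [conj_pow, hk, mul_one, mul_inv_cancel]⟩)
    have he : m2 * g * m1⁻¹ * (m1 * y * m1⁻¹) * (m2 * g * m1⁻¹)⁻¹ = m2 * (g * y * g⁻¹) * m2⁻¹ := by
      group
    obtain ⟨n, hn, hne⟩ := S.control P (A := {m1 * y * m1⁻¹}) (g := m2 * g * m1⁻¹)
      (Set.singleton_subset_iff.mpr h1) (by
        rintro _ ⟨a, ha, rfl⟩
        rw [Set.mem_singleton_iff] at ha
        subst ha
        show m2 * g * m1⁻¹ * (m1 * y * m1⁻¹) * (m2 * g * m1⁻¹)⁻¹ ∈ (P : Subgroup G)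
        rw [he]; exact h2)
    have h3 := hne _ (Set.mem_singleton _)
    rw [he] at h3
    refine ⟨m2⁻¹ * n * m1, M0.mul_mem (M0.mul_mem (M0.inv_mem hm2) (hL hn)) hm1, ?_⟩
    calc m2⁻¹ * n * m1 * y * (m2⁻¹ * n * m1)⁻¹ = m2⁻¹ * (n * (m1 * y * m1⁻¹) * n⁻¹) * m2 := by group
      _ = m2⁻¹ * (m2 * (g * y * g⁻¹) * m2⁻¹) * m2 := by rw [h3]
      _ = g * y * g⁻¹ := by group
  have hconj : ∀ M, Big p M → ¬ NType p M → ∃ k : G, M = MulAut.conj k • M0 ∧ Big p M0 := by
    intro M hM hN
    obtain ⟨P', hP', hL', x', hx', hx'r⟩ := S.exists_ctrl hM hN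
    obtain ⟨g, hg⟩ := MulAction.exists_smul_eq G P P'
    refine ⟨g, S.big_unique hM (S.big_conj hM0 g) (hL' hx') ?_ hx'r, hM0⟩
    rw [mem_conj_smul_iff]
    refine hL (mem_normalizer_of_conj fun z hz => ?_)
    have hmap : (Cfsg.centerThompsonAOf (P : Subgroup G)).map (MulAut.conj g).toMonoidHom =
        Cfsg.centerThompsonAOf (P' : Subgroup G) := by
      rw [PLocalB.centerThompsonAOf_map _ _ (MulAut.conj g).injective.injOn, ← hg,
        Sylow.coe_subgroup_smul]
      rfl
    have h1 : g * z * g⁻¹ ∈ Cfsg.centerThompsonAOf (P' : Subgroup G) := hmap ▸ ⟨z, hz, rfl⟩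
    have h2 := (mem_normalizer_iff.mp hx' _).mp h1
    rw [← hmap] at h2
    obtain ⟨w, hw, hwe⟩ := h2
    have hwe' : g * w * g⁻¹ = x' * (g * z * g⁻¹) * x'⁻¹ := hwe
    have : g⁻¹ * x' * g * z * (g⁻¹ * x' * g)⁻¹ = w := by
      calc g⁻¹ * x' * g * z * (g⁻¹ * x' * g)⁻¹ = g⁻¹ * (x' * (g * z * g⁻¹) * x'⁻¹) * g := by group
        _ = g⁻¹ * (g * w * g⁻¹) * g := by rw [hwe']
        _ = w := by group
    exact this ▸ hw
  have hid := count_identity M0 P hP hfus fun y hy hyp hy1 => S.loc_cond M0 P hP hfus hconj hy hyp hy1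
  rw [S.preg_sum] at hid
  set 𝓜 := Finset.univ.filter fun M : Subgroup G => Big p M with h𝓜
  set O := (Finset.univ : Finset G).image fun g => MulAut.conj g • M0 with hO
  have hOsub : O ⊆ 𝓜 := by
    intro N hN
    obtain ⟨g, -, rfl⟩ := Finset.mem_image.mp hN
    exact Finset.mem_filter.mpr ⟨Finset.mem_univ _, S.big_conj hM0 g⟩
  have hOc := card_orbit_mul M0 (S.big_stab hM0)
  rw [← hO] at hOc
  rw [← Finset.sum_sdiff hOsub, Finset.sum_congr rfl (s₁ := O) (g := fun _ => nreg p M0 - 1)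
    (fun N hN => by
      obtain ⟨g, -, rfl⟩ := Finset.mem_image.mp hN
      rw [nreg_conj]), Finset.sum_const, smul_eq_mul] at hid
  set R := ∑ M ∈ 𝓜 \ O, (nreg p M - 1) with hR
  obtain ⟨n0, hn0⟩ : ∃ n0, nreg p M0 = n0 + 1 := ⟨nreg p M0 - 1, by have := one_le_nreg (p := p) M0; omega⟩
  rw [hn0, Nat.add_sub_cancel, ← hOc] at hid
  have hkey : 1 + R = O.card := by
    refine Nat.eq_of_mul_eq_mul_left (Nat.card_pos (α := ↥M0)) ?_
    nlinarith [hid]
  rcases (𝓜 \ O).eq_empty_or_nonempty with he | ⟨M, hM⟩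
  · rw [hR, he, Finset.sum_empty] at hkey
    rw [← hkey, Nat.add_zero, one_mul] at hOc
    exact S.big_ne_top hM0 (eq_top_of_card_eq M0 hOc)
  · obtain ⟨hM𝓜, hMO⟩ := Finset.mem_sdiff.mp hM
    have hMbig : Big p M := (Finset.mem_filter.mp hM𝓜).2
    have hMN : NType p M := by
      by_contra hne
      obtain ⟨k, hk, -⟩ := hconj M hMbig hne
      exact hMO (Finset.mem_image.mpr ⟨k, Finset.mem_univ _, hk.symm⟩)
    obtain ⟨h, h2, hnr, -, j, hj⟩ := S.ntype_facts hMbig hMN
    set O' := (Finset.univ : Finset G).image fun g => MulAut.conj g • M with hO'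
    have hsub : O' ⊆ 𝓜 \ O := by
      intro N hN
      obtain ⟨g, -, rfl⟩ := Finset.mem_image.mp hN
      refine Finset.mem_sdiff.mpr ⟨Finset.mem_filter.mpr ⟨Finset.mem_univ _, S.big_conj hMbig g⟩, ?_⟩
      intro hc
      obtain ⟨g', -, hg'⟩ := Finset.mem_image.mp hc
      refine hMO (Finset.mem_image.mpr ⟨g⁻¹ * g', Finset.mem_univ _, ?_⟩)
      rw [map_mul, mul_smul, hg', map_inv, inv_smul_smul]
    have hRge : O'.card * (h - 1) ≤ R := by
      calc O'.card * (h - 1) = ∑ N ∈ O', (nreg p N - 1) := by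
            rw [Finset.sum_congr rfl (g := fun _ => h - 1) (fun N hN => by
              obtain ⟨g, -, rfl⟩ := Finset.mem_image.mp hN
              rw [nreg_conj, hnr]), Finset.sum_const, smul_eq_mul]
        _ ≤ R := Finset.sum_le_sum_of_subset hsub
    have hOc' := card_orbit_mul M (S.big_stab hMbig)
    rw [← hO'] at hOc'
    -- sizes
    obtain ⟨Y, hY⟩ : ∃ Y : ℕ, Nat.card ↥(P : Subgroup G) = Y := ⟨_, rfl⟩
    have hjY : p ^ j ≤ Y := by
      rw [← hY, P.card_eq_multiplicity]
      exact Nat.le_of_dvd (pow_pos S.hprime.pos _)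
        (pow_dvd_pow p ((S.hprime.pow_dvd_iff_le_factorization Nat.card_pos.ne').mp
          ((dvd_mul_left _ _).trans (hj ▸ card_subgroup_dvd_card M))))
    have hM0ge : 2 * Y ≤ Nat.card ↥M0 := by
      have hc : (orderOf x0).Coprime Y := by
        rw [← hY, P.card_eq_multiplicity]; exact hx0r.1.pow_right _
      have hd : orderOf x0 * Y ∣ Nat.card ↥M0 :=
        hc.mul_dvd_of_dvd_of_dvd (orderOf_dvd_natCard M0 (hL hx0)) (hY ▸ card_dvd_of_le hP)
      have h2' : 2 ≤ orderOf x0 := by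
        have := orderOf_pos x0
        have : orderOf x0 ≠ 1 := fun he => hx0r.2 (orderOf_eq_one_iff.mp he)
        omega
      exact (Nat.mul_le_mul_right Y h2').trans (Nat.le_of_dvd Nat.card_pos hd)
    obtain ⟨h', rfl⟩ : ∃ h', h = h' + 2 := ⟨h - 2, by omega⟩
    rw [show h' + 2 - 1 = h' + 1 by omega] at hRge
    have h1 : O'.card * (h' + 1) * (2 * Y) < O.card * Nat.card ↥M0 := by
      calc O'.card * (h' + 1) * (2 * Y) ≤ R * Nat.card ↥M0 := Nat.mul_le_mul hRge hM0ge
        _ < (1 + R) * Nat.card ↥M0 := Nat.mul_lt_mul_of_pos_right (by omega) Nat.card_pos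
        _ = O.card * Nat.card ↥M0 := by rw [hkey]
    rw [hOc, ← hOc', hj] at h1
    have : O'.card * ((h' + 2) * p ^ j) ≤ O'.card * (h' + 1) * (2 * Y) := by
      have h3 : (h' + 2) * p ^ j ≤ 2 * (h' + 1) * Y := Nat.mul_le_mul (by omega) hjY
      calc O'.card * ((h' + 2) * p ^ j) ≤ O'.card * (2 * (h' + 1) * Y) := Nat.mul_le_mul_left _ h3
        _ = O'.card * (h' + 1) * (2 * Y) := by ring
    omega

theorem case_all_ntype (hall : ∀ M : Subgroup G, Big p M → NType p M) : False := by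
  classical
  haveI := S.finite
  haveI := S.factP
  haveI := S.simple
  haveI := Fintype.ofFinite G
  haveI : Fintype (Subgroup G) := Fintype.ofFinite _
  obtain ⟨P⟩ := (inferInstance : Nonempty (Sylow p G))
  set L := normalizer (Cfsg.centerThompsonAOf (P : Subgroup G) : Set G) with hLdef
  have hPne : (P : Subgroup G) ≠ ⊥ := by
    intro hbot
    refine S.nonsolv (Group.isSolvable_of_comm fun a b => ?_)
    have hc : (Nat.card ↥(⊤ : Subgroup G)).Coprime p := by
      rw [card_top]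
      refine (S.hprime.coprime_iff_not_dvd.mpr fun hd => P.ne_bot_of_dvd_card hd hbot).symm
    exact (S.hyp.comm hc (mem_top a) (mem_top b)).eq
  have hPL : (P : Subgroup G) ≤ L := le_normalizer.trans (PLocalB.normalizer_le_normalizer_ZJ _)
  have hLtop : L ≠ ⊤ := by
    refine S.normalizer_ne_top (PLocalB.centerThompsonAOf_ne_bot P.2 hPne) fun h => ?_
    have := zj_le' P
    rw [h, top_le_iff] at this
    exact S.not_isPGroup (P.2.of_equiv ((MulEquiv.subgroupCongr this).trans Subgroup.topEquiv))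
  have hctl1 : ∀ x ∈ (P : Subgroup G), ∀ y ∈ (P : Subgroup G), (∃ g : G, g * x * g⁻¹ = y) →
      ∃ k ∈ L, k * x * k⁻¹ = y := by
    rintro x hx y hy ⟨g, rfl⟩
    obtain ⟨n, hn, hne⟩ := S.control P (A := {x}) (g := g) (Set.singleton_subset_iff.mpr hx) (by
      rintro _ ⟨a, ha, rfl⟩
      rw [Set.mem_singleton_iff] at ha
      subst ha
      exact hy)
    exact ⟨n, hn, (hne x (Set.mem_singleton x)).symm⟩
  have hfoc : (P : Subgroup G) ≤ ⁅(P : Subgroup G), L⁆ := by
    refine le_trans (le_of_eq ?_) (Transfer.focalSubgroup_le_of_control hctl1)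
    rw [← Subgroup.commutator_inf_eq_focalSubgroup P, S.commutator_eq_top, top_inf_eq]
  -- `L` lies in no attached subgroup
  have hLM : ∀ M, Big p M → ¬ L ≤ M := by
    intro M hM hle
    obtain ⟨H, hH, hn⟩ := hall M hM
    have hPM : (P : Subgroup G) ≤ M := hPL.trans hle
    set D := ⁅(P : Subgroup G), (P : Subgroup G)⁆ with hD
    have hPn : (P : Subgroup G) ≤ normalizer (H : Set G) := hPM.trans hn
    obtain ⟨hHM, hHc, k, hk⟩ := hH
    have hsup : M ≤ (P : Subgroup G) ⊔ H := by
      have hpk : p ^ k ∣ Nat.card ↥(P : Subgroup G) := by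
        rw [P.card_eq_multiplicity]
        exact pow_dvd_pow p ((S.hprime.pow_dvd_iff_le_factorization Nat.card_pos.ne').mp
          ((dvd_mul_left _ _).trans (hk ▸ card_subgroup_dvd_card M)))
      have hd : Nat.card ↥M ∣ Nat.card ↥((P : Subgroup G) ⊔ H) := by
        rw [hk]
        exact (hHc.pow_right k).mul_dvd_of_dvd_of_dvd (card_dvd_of_le le_sup_right)
          (hpk.trans (card_dvd_of_le le_sup_left))
      exact (eq_of_le_of_card_ge (sup_le hPM hHM) (Nat.le_of_dvd Nat.card_pos hd)).ge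
    have hcle : ⁅(P : Subgroup G), L⁆ ≤ D ⊔ H := by
      refine commutator_le.mpr fun a ha l hl => ?_
      have hl' := hsup (hle hl)
      rw [← SetLike.mem_coe, Subgroup.coe_mul_of_left_le_normalizer_right _ _ hPn] at hl'
      obtain ⟨b, hb, h, hh, rfl⟩ := hl'
      have e : ⁅a, b * h⁆ = ⁅a, b⁆ * (b * (a * h * a⁻¹ * h⁻¹) * b⁻¹) := by
        simp only [commutatorElement_def]; group
      rw [e]
      refine mul_mem (mem_sup_left (commutator_mem_commutator ha hb)) (mem_sup_right ?_)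
      exact (mem_normalizer_iff.mp (hPn hb) _).mp
        (H.mul_mem ((mem_normalizer_iff.mp (hPn ha) h).mp hh) (H.inv_mem hh))
    refine hPne (Transfer.eq_bot_of_le_commutator (hS := P.2.isNilpotent) le_rfl fun z hz => ?_)
    have hz' := hcle (hfoc hz)
    have hDP : D ≤ (P : Subgroup G) := commutator_le.mpr fun a ha b hb =>
      (P : Subgroup G).mul_mem ((P : Subgroup G).mul_mem ((P : Subgroup G).mul_mem ha hb)
        ((P : Subgroup G).inv_mem ha)) ((P : Subgroup G).inv_mem hb)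
    rw [← SetLike.mem_coe, Subgroup.coe_mul_of_left_le_normalizer_right _ _ (hDP.trans hPn)] at hz'
    obtain ⟨d, hd, h, hh, he⟩ := hz'
    have he' : d * h = z := he
    have hhP : h ∈ (P : Subgroup G) := by
      have : h = d⁻¹ * z := by rw [← he']; group
      rw [this]
      exact (P : Subgroup G).mul_mem ((P : Subgroup G).inv_mem (hDP hd)) hz
    have h1 : h = 1 := coprime_pel (pel_of_mem P.2 hhP) (coprime_orderOf hHc hh)
    subst h1
    rw [mul_one] at he'
    exact he' ▸ hd
  obtain ⟨HL, hHL, -⟩ := S.exists_hall hLtop (bot_le : (⊥ : Subgroup G) ≤ L) (by simp)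
  obtain ⟨hLn, hL2, hL3⟩ := S.structure_hall hLtop hHL
  have hLeq : ∀ l ∈ L, l ∈ op p L ⊔ HL := by
    intro l hl
    obtain ⟨v, hv, n, hn, rfl⟩ := hL2 l hl
    have hcomm : ∀ h ∈ HL, Commute n h := by
      intro h hh
      obtain ⟨i, j, hij, hi, hj⟩ := exists_parts S.hprime n
      have h2 : Commute (n ^ j) h := S.hyp.comm hHL.2.1
        (S.eq_of_normalizes hHL hLtop (pow_mem hn.1 j) (pow_mem hn.2 j) hj) hh
      have h1 : Commute (n ^ i) h := by
        by_contra hne
        obtain ⟨q, B, hB, hBL⟩ := S.thick_of_moved hHL.2.1 hi (pow_mem hn.2 i)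
          ⟨h, hh, fun he => hne (mul_inv_eq_iff_eq_mul.mp he)⟩
        obtain ⟨b, hb, hb1⟩ := hB.exists_ne_one
        obtain ⟨M, hM, hbM, hCb⟩ := S.exists_big (S.thick_preg hB hb hb1)
        refine hLM M hM (S.big_le_of_thick hM hLtop hB (fun c hc => hCb ?_) (hBL.trans hHL.1))
        exact mem_centralizer_singleton_iff.mpr (S.hyp.comm (hB.coprime S.hprime) hc hb).eq
      exact hij ▸ h1.mul_left h2
    obtain ⟨w, hw, h, hh, rfl⟩ := hL3 n hn.1 hcomm
    exact mul_mem (mem_sup_left hv) (mul_mem (mem_sup_left hw) (mem_sup_right hh))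
  have hpelP : ∀ y ∈ L, PEl p y → y ∈ op p L := fun y hy hyp =>
    pel_mem_of_mem_sup (op_isPGroup L) hHL.2.1 (hHL.1.trans (op_normal p L)) (hLeq y hy) hyp
  have hPop : op p L = (P : Subgroup G) :=
    P.3 (op_isPGroup L) fun y hy => hpelP y (hPL hy) (pel_of_mem P.2 hy)
  have hLP : L ≤ normalizer ((P : Subgroup G) : Set G) := hPop ▸ op_normal p L
  have hpP : ∀ y ∈ L, PEl p y → y ∈ (P : Subgroup G) := fun y hy hyp => hPop ▸ hpelP y hy hyp
  have hfus : ∀ y g : G, PEl p y → y ∈ L → g * y * g⁻¹ ∈ L →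
      ∃ m ∈ L, m * y * m⁻¹ = g * y * g⁻¹ := fun y g hyp hy hgy =>
    hctl1 y (hpP y hy hyp) _ (hpP _ hgy (by
      obtain ⟨k, hk⟩ := hyp
      exact ⟨k, by rw [conj_pow, hk, mul_one, mul_inv_cancel]⟩)) ⟨g, rfl⟩
  have hid := count_identity L P hPL hfus fun y hy hyp hy1 =>
    S.loc_cond L P hPL hfus (fun M hM hN => absurd (hall M hM) hN) hy hyp hy1
  -- elements of order prime to `p` act without fixed points
  have hfpf : ∀ γ ∈ L, PReg p γ → ∀ y ∈ (P : Subgroup G), Commute y γ → y = 1 := by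
    intro γ hγ hγr y hy hyc
    by_contra hy1
    obtain ⟨M, hM, hγM, hCγ⟩ := S.exists_big hγr
    obtain ⟨H, hH, hn⟩ := hall M hM
    have hγH := S.preg_mem (S.big_ne_top hM) hH hn hγM hγr.1
    have key : ∀ w ∈ (P : Subgroup G), w ≠ 1 → Commute w γ → ∀ u ∈ (P : Subgroup G), Commute u w →
        Commute u γ := by
      intro w hw hw1 hwc u hu huw
      have hwM : w ∈ M := hCγ (mem_centralizer_singleton_iff.mpr hwc.eq)
      have huM : u ∈ M := S.claimC hM ⟨H, hH, hn⟩ hγM hγr hwM (pel_of_mem P.2 hw) hw1 hwc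
        (mem_centralizer_singleton_iff.mpr huw.eq)
      have h1 : u * γ * u⁻¹ * γ⁻¹ ∈ H :=
        H.mul_mem ((mem_normalizer_iff.mp (hn huM) γ).mp hγH) (H.inv_mem hγH)
      have h2 : u * γ * u⁻¹ * γ⁻¹ ∈ (P : Subgroup G) := by
        have h3 := (mem_normalizer_iff.mp (hLP hγ) u⁻¹).mp ((P : Subgroup G).inv_mem hu)
        simpa [mul_assoc] using (P : Subgroup G).mul_mem hu h3
      have h0 := coprime_pel (pel_of_mem P.2 h2) (coprime_orderOf hH.2.1 h1)
      exact mul_inv_eq_iff_eq_mul.mp (mul_inv_eq_one.mp h0)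
    haveI : Nontrivial ↥(P : Subgroup G) := (nontrivial_iff_ne_bot _).mpr hPne
    haveI := P.2.center_nontrivial
    obtain ⟨z, hz⟩ := exists_ne (1 : ↥(center ↥(P : Subgroup G)))
    have hzc : ∀ u ∈ (P : Subgroup G), Commute u ((z : ↥(P : Subgroup G)) : G) := fun u hu =>
      congrArg Subtype.val (mem_center_iff.mp z.2 ⟨u, hu⟩)
    have hz1 : ((z : ↥(P : Subgroup G)) : G) ≠ 1 := fun h => hz (Subtype.ext (Subtype.ext h))
    have hzγ := key y hy hy1 hyc _ (z : ↥(P : Subgroup G)).2 (hzc y hy).symm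
    have hPγ : ∀ u ∈ (P : Subgroup G), Commute u γ := fun u hu =>
      key _ (z : ↥(P : Subgroup G)).2 hz1 hzγ u hu (hzc u hu)
    set E := M ⊓ centralizer ({γ} : Set G) with hE
    have hPE : (P : Subgroup G) ≤ E := fun u hu =>
      ⟨hCγ (mem_centralizer_singleton_iff.mpr (hPγ u hu).eq),
        mem_centralizer_singleton_iff.mpr (hPγ u hu).eq⟩
    obtain ⟨hHM, hHc, k, hk⟩ := hH
    have hHE : H ≤ E := le_inf hHM fun h hh =>
      mem_centralizer_singleton_iff.mpr (S.hyp.comm hHc hh hγH).eq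
    have hpk : p ^ k ∣ Nat.card ↥(P : Subgroup G) := by
      rw [P.card_eq_multiplicity]
      exact pow_dvd_pow p ((S.hprime.pow_dvd_iff_le_factorization Nat.card_pos.ne').mp
        ((dvd_mul_left _ _).trans (hk ▸ card_subgroup_dvd_card M)))
    have hd : Nat.card ↥M ∣ Nat.card ↥E := by
      rw [hk]
      exact (hHc.pow_right k).mul_dvd_of_dvd_of_dvd (card_dvd_of_le hHE)
        (hpk.trans (card_dvd_of_le hPE))
    have hME : M ≤ centralizer ({γ} : Set G) :=
      (eq_of_le_of_card_ge inf_le_left (Nat.le_of_dvd Nat.card_pos hd)).ge.trans inf_le_right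
    exact hγr.2 (S.transfer_fix hM ⟨hHM, hHc, k, hk⟩ hγH fun n hn' _ =>
      mem_centralizer_singleton_iff.mp (hME hn'.1))
  -- the number of `p'`-elements of `L`
  set l := Nat.card ↥L with hl
  set n := Nat.card ↥(P : Subgroup G) with hn
  have hnl : nreg p L + n = l + 1 := by
    have h1 : nreg p L = (Finset.univ.filter fun x : G => x ∈ L ∧ (orderOf x).Coprime p).card := by
      rw [nreg, Nat.card_eq_fintype_card, Fintype.card_subtype]
    have h2 : n = (Finset.univ.filter fun x : G => x ∈ (P : Subgroup G)).card := by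
      rw [hn, Nat.card_eq_fintype_card, Fintype.card_subtype]
    have h3 : l = (Finset.univ.filter fun x : G => x ∈ L).card := by
      rw [hl, Nat.card_eq_fintype_card, Fintype.card_subtype]
    rw [h1, h2, h3, ← Finset.card_union_add_card_inter]
    congr 1
    · refine congrArg Finset.card ?_
      ext x
      simp only [Finset.mem_union, Finset.mem_filter, Finset.mem_univ, true_and]
      refine ⟨fun h => h.elim (fun h => h.1) fun h => hPL h, fun hx => ?_⟩
      obtain ⟨i, j, hij, hi, hj⟩ := exists_parts S.hprime x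
      by_cases hj1 : x ^ j = 1
      · right
        rw [← hij, hj1, mul_one]
        exact hpP _ (pow_mem hx i) hi
      · left
        refine ⟨hx, ?_⟩
        have h0 := hfpf _ (pow_mem hx j) ⟨hj, hj1⟩ _ (hpP _ (pow_mem hx i) hi)
          ((Commute.refl x).pow_pow i j)
        rw [← hij, h0, one_mul]
        exact hj
    · refine Finset.card_eq_one.mpr ⟨1, ?_⟩
      ext x
      simp only [Finset.mem_inter, Finset.mem_filter, Finset.mem_univ, true_and,
        Finset.mem_singleton]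
      refine ⟨fun h => coprime_pel (pel_of_mem P.2 h.2) h.1.2, ?_⟩
      rintro rfl
      exact ⟨⟨L.one_mem, by rw [orderOf_one]; exact Nat.coprime_one_left p⟩, (P : Subgroup G).one_mem⟩
  have hl2 : 2 * n ≤ l := by
    obtain ⟨c, hc⟩ := card_dvd_of_le hPL
    rw [← hl, ← hn] at hc
    rcases Nat.lt_or_ge c 2 with hc2 | hc2
    · exfalso
      have hc1 : c = 1 := by
        rcases Nat.eq_zero_or_pos c with h0 | h0
        · rw [h0, mul_zero] at hc
          exact absurd hc (Nat.card_pos (α := ↥L)).ne'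
        · omega
      rw [hc1, mul_one] at hc
      have hLeqP : (P : Subgroup G) = L := eq_of_le_of_card_ge hPL hc.le
      rw [← hLeqP] at hfoc
      exact hPne (Transfer.eq_bot_of_le_commutator (hS := P.2.isNilpotent) le_rfl hfoc)
    · rw [hc, Nat.mul_comm 2 n]; exact Nat.mul_le_mul_left n hc2
  -- the global count
  rw [S.preg_sum] at hid
  set 𝓜 := Finset.univ.filter fun M : Subgroup G => Big p M with h𝓜
  set PF := (p - 1).primeFactors with hPF
  set N := Nat.card G with hN
  have hbound : p * ∑ M ∈ 𝓜, (nreg p M - 1) ≤ PF.card * N := by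
    rw [Finset.mul_sum]
    have hcov : 𝓜 ⊆ PF.biUnion fun q => 𝓜.filter fun M => q ∣ nreg p M := by
      intro M hM
      have hMb := (Finset.mem_filter.mp hM).2
      obtain ⟨H, hH, hn'⟩ := hall M hMb
      obtain ⟨q, B, hB, hBM⟩ := S.big_thick hMb
      obtain ⟨b, hb, hb1⟩ := hB.exists_ne_one
      have hqb : orderOf b = q := @orderOf_eq_prime _ _ _ q ⟨hB.prime⟩ (hB.elem.2 b hb) hb1
      refine Finset.mem_biUnion.mpr ⟨q, ?_, Finset.mem_filter.mpr ⟨hM, ?_⟩⟩
      · exact Nat.mem_primeFactors.mpr ⟨hB.prime, S.hyp.dvd_pred hB.prime hB.ne S.hprime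
          (hqb ▸ orderOf_dvd_natCard b), by have := S.five; omega⟩
      · rw [nreg_eq_of hH.1 hH.2.1 fun x hx ho => S.preg_mem (S.big_ne_top hMb) hH hn' hx ho, ← hqb]
        exact orderOf_dvd_natCard H
          (S.preg_mem (S.big_ne_top hMb) hH hn' (hBM hb) (S.thick_preg hB hb hb1).1)
    refine le_trans (Finset.sum_le_sum_of_subset hcov) (le_trans (sum_biUnion_le' _ _ _) ?_)
    rw [← smul_eq_mul, ← Finset.sum_const]
    refine Finset.sum_le_sum fun q hq => ?_
    rcases (𝓜.filter fun M => q ∣ nreg p M).eq_empty_or_nonempty with he | ⟨M, hMq⟩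
    · rw [he, Finset.sum_empty]; exact Nat.zero_le _
    · have hqp := Nat.prime_of_mem_primeFactors hq
      haveI := Fact.mk hqp
      have hqne : q ≠ p := by
        intro he
        have := Nat.le_of_dvd (by have := S.five; omega) (Nat.dvd_of_mem_primeFactors hq)
        have := S.five
        omega
      have hex : ∀ M' ∈ 𝓜.filter (fun M => q ∣ nreg p M), ∃ x ∈ M', orderOf x = q := by
        intro M' hM'
        obtain ⟨hM'1, hd⟩ := Finset.mem_filter.mp hM'
        have hMb := (Finset.mem_filter.mp hM'1).2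
        obtain ⟨H, hH, hn'⟩ := hall M' hMb
        rw [nreg_eq_of hH.1 hH.2.1 fun x hx ho => S.preg_mem (S.big_ne_top hMb) hH hn' hx ho] at hd
        obtain ⟨x, hx⟩ := exists_prime_orderOf_dvd_card' q hd
        exact ⟨x, hH.1 x.2, by rw [orderOf_coe, hx]⟩
      obtain ⟨hM1, hM2⟩ := Finset.mem_filter.mp hMq
      have hMb := (Finset.mem_filter.mp hM1).2
      obtain ⟨h, hh2, hnr, hhp, -⟩ := S.ntype_facts hMb (hall M hMb)
      set O := (Finset.univ : Finset G).image fun g => MulAut.conj g • M with hO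
      have hsub : 𝓜.filter (fun M => q ∣ nreg p M) ⊆ O := by
        intro M' hM'
        have hMb' := (Finset.mem_filter.mp (Finset.mem_filter.mp hM').1).2
        obtain ⟨x, hxM, hx⟩ := hex M hMq
        obtain ⟨x', hxM', hx'⟩ := hex M' hM'
        obtain ⟨R, hR⟩ := exists_sylow_mem hx
        obtain ⟨R', hR'⟩ := exists_sylow_mem hx'
        obtain ⟨g, hg⟩ := MulAction.exists_smul_eq G R R'
        refine Finset.mem_image.mpr ⟨g, Finset.mem_univ _, ?_⟩
        have hy : g * x * g⁻¹ ∈ (R' : Subgroup G) := by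
          rw [← hg, Sylow.coe_subgroup_smul]
          exact smul_mem_pointwise_smul x (MulAut.conj g) _ hR
        have hyo : orderOf (g * x * g⁻¹) = q := by rw [← hx, ← MulAut.conj_apply, MulEquiv.orderOf_eq]
        refine S.big_unique (S.big_conj hMb g) hMb' (mem_conj_smul_iff.mpr ?_)
          (S.sylow_le hqne (S.big_eq_bigAt hMb' hxM' hqne hx' hR') hy) ⟨?_, fun h => ?_⟩
        · simpa [mul_assoc] using hxM
        · rw [hyo]; exact (Nat.coprime_primes hqp S.hprime).mpr hqne
        · rw [h, orderOf_one] at hyo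
          exact hqp.one_lt.ne hyo
      refine le_trans (Finset.sum_le_sum_of_subset hsub) ?_
      rw [Finset.sum_congr rfl (g := fun _ => p * (h - 1)) (fun M' hM' => by
        obtain ⟨g, -, rfl⟩ := Finset.mem_image.mp hM'
        rw [nreg_conj, hnr]), Finset.sum_const, smul_eq_mul]
      calc O.card * (p * (h - 1)) ≤ O.card * Nat.card ↥M := by
            refine Nat.mul_le_mul_left _ ((Nat.mul_le_mul_left p (Nat.sub_le h 1)).trans ?_)
            rw [Nat.mul_comm]
            exact Nat.le_of_dvd Nat.card_pos hhp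
        _ = N := card_orbit_mul M (S.big_stab hMb)
  have hk : 2 * PF.card ≤ p - 1 := by
    have h1 : 2 ^ PF.card ≤ PF.prod id :=
      Finset.pow_card_le_prod PF id 2 fun q hq => (Nat.prime_of_mem_primeFactors hq).two_le
    have h2 : PF.prod id ≤ p - 1 :=
      Nat.le_of_dvd (by have := S.five; omega) (Nat.prod_primeFactors_dvd (p - 1))
    have h3 : ∀ k : ℕ, 2 * k ≤ 2 ^ k := by
      intro k
      rcases k with _ | k
      · simp
      · rw [pow_succ, Nat.mul_comm 2]
        exact Nat.mul_le_mul_right 2 (Nat.lt_two_pow_self)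
    exact (h3 _).trans (h1.trans h2)
  set R := ∑ M ∈ 𝓜, (nreg p M - 1) with hR
  obtain ⟨a, ha⟩ : ∃ a, nreg p L = a := ⟨_, rfl⟩
  rw [ha] at hnl hid
  have hN0 : l < N := by
    rcases lt_or_eq_of_le (card_le_card_group L) with h | h
    · exact h
    · exact absurd (eq_top_of_card_eq L h) hLtop
  have hp5 := S.five
  -- l * (1 + R) = N * a
  have h1 : 2 * (p * (N * a)) ≤ 2 * (p * l) + l * ((p - 1) * N) := by
    calc 2 * (p * (N * a)) = 2 * (p * l) + l * (2 * (p * R)) := by rw [← hid]; ring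
      _ ≤ 2 * (p * l) + l * (2 * (PF.card * N)) := by
          exact Nat.add_le_add_left (Nat.mul_le_mul_left l (Nat.mul_le_mul_left 2 hbound)) _
      _ ≤ 2 * (p * l) + l * ((p - 1) * N) := by
          refine Nat.add_le_add_left (Nat.mul_le_mul_left l ?_) _
          rw [← Nat.mul_assoc]
          exact Nat.mul_le_mul_right N hk
  obtain ⟨p', rfl⟩ : ∃ p', p = p' + 1 := ⟨p - 1, by omega⟩
  rw [Nat.add_sub_cancel] at h1
  have h2a : l + 2 ≤ 2 * a := by omega
  have h3 : (p' + 1) * N * (l + 2) ≤ (p' + 1) * N * (2 * a) := Nat.mul_le_mul_left _ h2a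
  nlinarith [h1, h3, hN0, hp5, Nat.zero_le (p' * l)]

theorem false_of_std : False := by
  by_cases h : ∀ M : Subgroup G, Big p M → NType p M
  · exact S.case_all_ntype h
  · push_neg at h
    obtain ⟨M, hM, hN⟩ := h
    exact S.case_ctrl hM hN

end Std

theorem isSolvable_small [Finite G] [Fact p.Prime] (h : Hyp p G) (hp : p < 5) :
    Group.IsSolvable G := by
  have hp' : p.Prime := Fact.out
  obtain ⟨m, k, hmk, hm⟩ := exists_split (p := p) (G := G)
  have hprimes : ∀ {q : ℕ}, q.Prime → q ∣ m → q = 2 := by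
    intro q hq hd
    have hqG : q ∣ Nat.card G := hd.trans (hmk ▸ dvd_mul_right m _)
    have hqp : q ≠ p := fun he => hp'.ne_one (Nat.Coprime.eq_one_of_dvd hm.symm (he ▸ hd))
    have hle := Nat.le_of_dvd (by have := hp'.two_le; omega) (h.dvd_pred hq hqp hp' hqG)
    have := hq.two_le
    have := hp'.two_le
    interval_cases p
    · omega
    · omega
    · exact absurd hp' (by norm_num)
  have hm0 : m ≠ 0 := fun h0 => by
    rw [h0, zero_mul] at hmk
    exact Nat.card_pos.ne' hmk
  have hm2 := Nat.eq_prime_pow_of_unique_prime_dvd hm0 (p := 2) fun hq hd => hprimes hq hd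
  exact CharCore.isSolvable_of_card_eq_prime_pow_mul hp' Nat.prime_two _ G k
    m.primeFactorsList.length rfl (by rw [hmk, ← hm2, Nat.mul_comm])

theorem Hyp.quotient [Finite G] [Fact p.Prime] (h : Hyp p G) (N : Subgroup G) [N.Normal]
    (hpq : p ∣ Nat.card (G ⧸ N)) (hsol : ∀ K : Subgroup G, K ≠ ⊤ → Group.IsSolvable ↥K) :
    Hyp p (G ⧸ N) := by
  intro X hX
  set K := X.comap (QuotientGroup.mk' N) with hK
  have hKtop : K ≠ ⊤ := by
    intro he
    have hXtop : X = ⊤ := by
      rw [eq_top_iff]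
      intro x _
      obtain ⟨g, rfl⟩ := QuotientGroup.mk'_surjective N x
      exact (he ▸ mem_top g : g ∈ K)
    rw [hXtop, card_top] at hX
    exact (Fact.out : p.Prime).ne_one (Nat.Coprime.eq_one_of_dvd hX.symm hpq)
  haveI := hsol K hKtop
  obtain ⟨m, k, hmk, hm⟩ := exists_split (p := p) (G := ↥K)
  obtain ⟨H, hH⟩ := Solvable.exists_hall hmk (hm.pow_right k)
  set H' := H.map K.subtype with hH'
  have hH'c : Nat.card ↥H' = m := by rw [hH', card_map_of_injective K.subtype_injective, hH]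
  let f : ↥K →* ↥X := ((QuotientGroup.mk' N).comp K.subtype).codRestrict X fun k => k.2
  have hf : Function.Surjective f := by
    rintro ⟨x, hx⟩
    obtain ⟨g, rfl⟩ := QuotientGroup.mk'_surjective N x
    exact ⟨⟨g, hx⟩, rfl⟩
  have hi : (H.map f).index = 1 := by
    have h1 := Subgroup.index_map_dvd H hf
    have h2 : H.index = p ^ k := by
      have h3 := H.card_mul_index
      rw [hH, hmk] at h3
      have hm0 : m ≠ 0 := fun h0 => by
        rw [h0, zero_mul] at hmk
        exact Nat.card_pos.ne' hmk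
      exact Nat.eq_of_mul_eq_mul_left (Nat.pos_of_ne_zero hm0) h3
    rw [h2] at h1
    exact Nat.eq_one_of_dvd_coprimes (hX.pow_right k) (index_dvd_card _) h1
  have hXY : X ≤ H'.map (QuotientGroup.mk' N) := by
    intro x hx
    have hmem : (⟨x, hx⟩ : ↥X) ∈ H.map f := (index_eq_one.mp hi).symm ▸ mem_top _
    obtain ⟨y, hy, hye⟩ := hmem
    exact ⟨(y : G), mem_map_of_mem _ hy, congrArg Subtype.val hye⟩
  have hH'p : (Nat.card ↥H').Coprime p := hH'c ▸ hm
  obtain ⟨hab, hexp⟩ := h H' hH'p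
  refine ⟨⟨⟨fun a b => Subtype.ext ?_⟩⟩, fun x hx => ?_⟩
  · obtain ⟨a', ha', hae⟩ := hXY a.2
    obtain ⟨b', hb', hbe⟩ := hXY b.2
    show (a : G ⧸ N) * b = b * a
    rw [← hae, ← hbe, ← map_mul, ← map_mul, (h.comm hH'p ha' hb').eq]
  · obtain ⟨x', hx', rfl⟩ := hXY hx
    rw [← map_pow, hexp x' hx', map_one]

end Cfsg.Agent.AbExp
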