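import Cfsg.Agent.AbExp.Basic
import Cfsg.Agent.FG78.PiParts

/-!
Abelian subgroups moved by `p`-elements have rank at least three.
-/

set_option autoImplicit false
set_option linter.all false
set_option maxHeartbeats 400000

open Subgroup

namespace Cfsg.Agent.AbExp

variable {G : Type*} [Group G] {p : ℕ}

/-- An elementary abelian `q`-subgroup of rank at least three, `q ≠ p`. -/
structure Thick (p q : ℕ) (B : Subgroup G) : Prop where
  prime : q.Prime
  ne : q ≠ p
  elem : Cfsg.IsElementaryAbelian q B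
  card : q ^ 3 ≤ Nat.card ↥B

/-- `p`-elements. -/
def PEl (p : ℕ) (g : G) : Prop := ∃ k : ℕ, g ^ p ^ k = 1

/-- `g` is a nontrivial element of order prime to `p`. -/
def PReg (p : ℕ) (g : G) : Prop := (orderOf g).Coprime p ∧ g ≠ 1

/-- `Ω₁` of an abelian subgroup. -/
def omega (q : ℕ) (X : Subgroup G) : Subgroup G := closure {x | x ∈ X ∧ x ^ q = 1}

theorem omega_le (q : ℕ) (X : Subgroup G) : omega q X ≤ X :=
  (closure_le _).mpr fun _ h => h.1

theorem mem_omega_of {q : ℕ} {X : Subgroup G} {x : G} (hx : x ∈ X) (h : x ^ q = 1) :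
    x ∈ omega q X := subset_closure ⟨hx, h⟩

theorem mem_omega {q : ℕ} {X : Subgroup G} [IsMulCommutative ↥X] {x : G} :
    x ∈ omega q X ↔ x ∈ X ∧ x ^ q = 1 := by
  refine ⟨fun h => ?_, fun h => mem_omega_of h.1 h.2⟩
  induction h using closure_induction with
  | mem y hy => exact hy
  | one => exact ⟨X.one_mem, one_pow _⟩
  | mul a b _ _ ha hb =>
      refine ⟨X.mul_mem ha.1 hb.1, ?_⟩
      have hc : Commute a b := congrArg Subtype.val (mul_comm' (⟨a, ha.1⟩ : ↥X) ⟨b, hb.1⟩)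
      rw [hc.mul_pow, ha.2, hb.2, mul_one]
  | inv a _ ha => exact ⟨X.inv_mem ha.1, by rw [inv_pow, ha.2, inv_one]⟩

theorem elem_omega (q : ℕ) (X : Subgroup G) [IsMulCommutative ↥X] :
    Cfsg.IsElementaryAbelian q (omega q X) :=
  ⟨⟨⟨fun a b => Subtype.ext (by
    simpa using congrArg Subtype.val
      (mul_comm' (⟨a, omega_le q X a.2⟩ : ↥X) ⟨b, omega_le q X b.2⟩))⟩⟩,
    fun a ha => (mem_omega.mp ha).2⟩

theorem elem_isPGroup {q : ℕ} {B : Subgroup G} (h : Cfsg.IsElementaryAbelian q B) :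
    IsPGroup q ↥B :=
  fun g => ⟨1, Subtype.ext (by rw [pow_one, SubmonoidClass.coe_pow]; exact h.2 g g.2)⟩

theorem Thick.comm {q : ℕ} {B : Subgroup G} (h : Thick p q B) : IsMulCommutative ↥B := h.elem.1

theorem Thick.coprime [Finite G] {q : ℕ} {B : Subgroup G} (h : Thick p q B) (hp : p.Prime) :
    (Nat.card ↥B).Coprime p := by
  haveI := Fact.mk h.prime
  obtain ⟨k, hk⟩ := IsPGroup.iff_card.mp (elem_isPGroup h.elem)
  rw [hk]
  exact Nat.Coprime.pow_left k ((Nat.coprime_primes h.prime hp).mpr h.ne)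

theorem Thick.not_isCyclic [Finite G] {q : ℕ} {B : Subgroup G} (h : Thick p q B) :
    ¬ IsCyclic ↥B := by
  intro hc
  obtain ⟨g, hg⟩ := hc.exists_generator
  have h1 : orderOf g = Nat.card ↥B := orderOf_eq_card_of_forall_mem_zpowers hg
  have h2 : orderOf g ∣ q :=
    orderOf_dvd_of_pow_eq_one (Subtype.ext (by rw [SubmonoidClass.coe_pow]; exact h.elem.2 g g.2))
  have h3 := Nat.le_of_dvd h.prime.pos h2
  have h4 := h.card
  have h5 : q < q ^ 3 := lt_self_pow₀ h.prime.one_lt (by norm_num)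
  omega

theorem Thick.exists_ne_one [Finite G] {q : ℕ} {B : Subgroup G} (h : Thick p q B) :
    ∃ b ∈ B, b ≠ 1 := by
  refine ((Subgroup.bot_or_exists_ne_one B).resolve_left fun he => ?_)
  have := h.card
  rw [he, Subgroup.card_bot] at this
  have : 1 < q ^ 3 := Nat.one_lt_pow (by norm_num) h.prime.one_lt
  omega

theorem PEl.pow {g : G} (h : PEl p g) (n : ℕ) : PEl p (g ^ n) := by
  obtain ⟨k, hk⟩ := h
  exact ⟨k, by rw [← pow_mul, Nat.mul_comm, pow_mul, hk, one_pow]⟩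

theorem exists_parts [Finite G] (hp : p.Prime) (g : G) :
    ∃ i j : ℕ, g ^ i * g ^ j = g ∧ PEl p (g ^ i) ∧ (orderOf (g ^ j)).Coprime p := by
  obtain ⟨i, j, h, hi, hj⟩ := FG78.exists_pi_decomp ({p} : Set ℕ) g
  refine ⟨i, j, h, ⟨(orderOf (g ^ i)).primeFactorsList.length, ?_⟩, ?_⟩
  · have he := Nat.eq_prime_pow_of_unique_prime_dvd (orderOf_pos (g ^ i)).ne'
      (p := p) fun hq hd => hi _ hq hd
    rw [← he, pow_orderOf_eq_one]
  · refine (hp.coprime_iff_not_dvd.mpr fun hd => ?_).symm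
    exact hj p hp hd rfl

theorem coprime_pel {x : G} (h : PEl p x) (hc : (orderOf x).Coprime p) : x = 1 := by
  obtain ⟨k, hk⟩ := h
  exact orderOf_eq_one_iff.mp (Nat.Coprime.eq_one_of_dvd (hc.pow_right k) (orderOf_dvd_of_pow_eq_one hk))

/-- A nontrivial action of a `p`-element on an abelian `q`-subgroup is nontrivial on `Ω₁`. -/
theorem fixed_of_omega {X : Subgroup G} [IsMulCommutative ↥X] {q : ℕ} (hq : q.Prime) (hqp : q ≠ p)
    (hp : p.Prime) {n : G} (hn : PEl p n) (hnX : ∀ x ∈ X, n * x * n⁻¹ ∈ X)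
    (h : ∀ x ∈ X, x ^ q = 1 → n * x * n⁻¹ = x) :
    ∀ a, ∀ x ∈ X, x ^ q ^ a = 1 → n * x * n⁻¹ = x := by
  intro a
  induction a with
  | zero => intro x _ hx; rw [pow_zero, pow_one] at hx; simp [hx]
  | succ a ih =>
    intro x hxX hx
    have hy : n * x ^ q * n⁻¹ = x ^ q :=
      ih _ (X.pow_mem hxX q) (by rw [← pow_mul, ← pow_succ']; exact hx)
    set z := n * x * n⁻¹ * x⁻¹ with hz
    have hzX : z ∈ X := X.mul_mem (hnX x hxX) (X.inv_mem hxX)
    have hc : Commute (n * x * n⁻¹) x⁻¹ :=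
      congrArg Subtype.val (mul_comm' (⟨_, hnX x hxX⟩ : ↥X) ⟨x⁻¹, X.inv_mem hxX⟩)
    have hzq : z ^ q = 1 := by
      rw [hz, hc.mul_pow, conj_pow, hy, inv_pow, mul_inv_cancel]
    have hzf := h z hzX hzq
    have hit : ∀ j : ℕ, n ^ j * x * (n ^ j)⁻¹ = z ^ j * x := by
      intro j
      induction j with
      | zero => simp
      | succ j ihj =>
        have h1 : n ^ (j + 1) * x * (n ^ (j + 1))⁻¹ = n * (n ^ j * x * (n ^ j)⁻¹) * n⁻¹ := by
          rw [pow_succ']; group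
        rw [h1, ihj]
        have h2 : n * (z ^ j * x) * n⁻¹ = (n * z * n⁻¹) ^ j * (n * x * n⁻¹) := by
          rw [conj_pow]; group
        rw [h2, hzf, pow_succ, hz]; simp only [mul_assoc, inv_mul_cancel, mul_one]
    obtain ⟨k, hk⟩ := hn
    have h1 := hit (p ^ k)
    rw [hk, one_mul, inv_one, mul_one] at h1
    have hzp : z ^ p ^ k = 1 := mul_eq_right.mp h1.symm
    have hz1 : z = 1 := orderOf_eq_one_iff.mp (Nat.eq_one_of_dvd_coprimes
      (((Nat.coprime_primes hq hp).mpr hqp).pow_right k) (orderOf_dvd_of_pow_eq_one hzq)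
      (orderOf_dvd_of_pow_eq_one hzp))
    exact mul_inv_eq_one.mp hz1

namespace Std

variable (S : Std p G)
include S

theorem three_le {q : ℕ} (hq : q.Prime) (hqp : q ≠ p) (hd : q ∣ Nat.card G) {B : Subgroup G}
    (hB : Cfsg.IsElementaryAbelian q B) {n : G} (hn : PEl p n) (hnB : n ∈ normalizer (B : Set G))
    (hmv : ∃ x ∈ B, n * x * n⁻¹ ≠ x) : q ^ 3 ≤ Nat.card ↥B := by
  haveI := S.finite
  haveI := S.factP
  haveI := Fact.mk hq
  obtain ⟨a, ha⟩ := IsPGroup.iff_card.mp (elem_isPGroup hB)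
  set F := B ⊓ centralizer ({n} : Set G) with hF
  obtain ⟨b, hb⟩ := IsPGroup.iff_card.mp ((elem_isPGroup hB).to_le (inf_le_left : F ≤ B))
  let φ : ↥(zpowers n) →* MulAut ↥B :=
    B.normalizerMonoidHom.comp (inclusion (zpowers_le.mpr hnB))
  letI : MulAction ↥(zpowers n) ↥B := MulAction.compHom ↥B φ
  have hZp : IsPGroup p ↥(zpowers n) := by
    rintro ⟨x, hx⟩
    obtain ⟨k, hk⟩ := hn
    obtain ⟨i, rfl⟩ := mem_zpowers_iff.mp hx
    exact ⟨k, Subtype.ext (by
      rw [SubmonoidClass.coe_pow, ← zpow_natCast, ← zpow_mul, mul_comm, zpow_mul, zpow_natCast, hk,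
        one_zpow, OneMemClass.coe_one])⟩
  have hmod := hZp.card_modEq_card_fixedPoints ↥B
  have hsm : ∀ (z : ↥(zpowers n)) (x : ↥B), ((z • x : ↥B) : G) = (z : G) * x * (z : G)⁻¹ :=
    fun z x => rfl
  have hfix : Nat.card ↑(MulAction.fixedPoints ↥(zpowers n) ↥B) = Nat.card ↥F := by
    refine Nat.card_congr ⟨fun x => ⟨x.1.1, x.1.2, ?_⟩, fun x => ⟨⟨x.1, x.2.1⟩, ?_⟩,
      fun x => rfl, fun x => rfl⟩
    · have h1 := congrArg Subtype.val (x.2 ⟨n, mem_zpowers n⟩)
      rw [hsm] at h1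
      exact mem_centralizer_singleton_iff.mpr (mul_inv_eq_iff_eq_mul.mp h1).symm
    · rintro ⟨z, hz⟩
      refine Subtype.ext ?_
      rw [hsm]
      have hc : Commute n x.1 := (mem_centralizer_singleton_iff.mp x.2.2).symm
      obtain ⟨i, rfl⟩ := mem_zpowers_iff.mp hz
      exact mul_inv_eq_iff_eq_mul.mpr (hc.zpow_left i).eq
  rw [hfix, ha, hb] at hmod
  have hba : b < a := by
    rcases lt_or_ge b a with h | h
    · exact h
    · exfalso
      obtain ⟨x, hx, hxn⟩ := hmv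
      have he : F = B := eq_of_le_of_card_ge inf_le_left
        (by rw [ha, hb]; exact Nat.pow_le_pow_right hq.pos h)
      have hxF : x ∈ F := by rw [he]; exact hx
      exact hxn (mul_inv_eq_iff_eq_mul.mpr (mem_centralizer_singleton_iff.mp hxF.2).symm)
  rw [ha]
  refine Nat.pow_le_pow_right hq.pos (le_trans ?_ (Nat.sub_le a b))
  by_contra hlt
  have hdvd : p ∣ q ^ (a - b) - 1 := by
    have h1 := (Nat.modEq_iff_dvd' (Nat.pow_le_pow_right hq.pos hba.le)).mp hmod.symm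
    have h2 : q ^ a - q ^ b = q ^ b * (q ^ (a - b) - 1) := by
      rw [Nat.mul_sub, mul_one, ← pow_add, Nat.add_sub_cancel' hba.le]
    rw [h2] at h1
    exact (Nat.Coprime.pow_right b ((Nat.coprime_primes S.hprime hq).mpr hqp.symm)).dvd_of_dvd_mul_left h1
  have hlp := S.lt_p hq hqp hd
  have h2 := hq.two_le
  have h5 := S.five
  have hab : a - b = 1 ∨ a - b = 2 := by omega
  rcases hab with h | h <;> rw [h] at hdvd
  · rw [pow_one] at hdvd
    have := Nat.le_of_dvd (by omega) hdvd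
    omega
  · have hfac : q ^ 2 - 1 = (q + 1) * (q - 1) := by
      have := Nat.sq_sub_sq q 1
      simpa using this
    rw [hfac] at hdvd
    rcases S.hprime.dvd_mul.mp hdvd with h' | h'
    · have := Nat.le_of_dvd (by omega) h'
      have hpe : p = q + 1 := by omega
      rcases hq.eq_two_or_odd' with rfl | ho
      · omega
      · rcases S.hprime.eq_two_or_odd' with hp2 | hpo
        · omega
        · rw [hpe] at hpo
          exact Nat.not_even_iff_odd.mpr hpo (Odd.add_one ho)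
    · have := Nat.le_of_dvd (by omega) h'
      omega

theorem thick_of_moved {X : Subgroup G} (hX : (Nat.card ↥X).Coprime p) {n : G} (hn : PEl p n)
    (hnX : n ∈ normalizer (X : Set G)) (hmv : ∃ x ∈ X, n * x * n⁻¹ ≠ x) :
    ∃ q B, Thick p q B ∧ B ≤ X := by
  haveI := S.finite
  haveI := S.factP
  haveI := (S.hyp X hX).1
  have hnX' : ∀ x ∈ X, n * x * n⁻¹ ∈ X := fun x hx => (mem_normalizer_iff.mp hnX x).mp hx
  by_contra hno
  obtain ⟨x, hxX, hxn⟩ := hmv
  have hle : X ≤ X ⊓ centralizer ({n} : Set G) := by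
    suffices Nat.card ↥X ∣ Nat.card ↥(X ⊓ centralizer ({n} : Set G)) from
      (eq_of_le_of_card_ge inf_le_left (Nat.le_of_dvd Nat.card_pos this)).ge
    refine (Nat.factorization_prime_le_iff_dvd Nat.card_pos.ne' Nat.card_pos.ne').mp fun q hq => ?_
    haveI := Fact.mk hq
    obtain ⟨P⟩ := (inferInstance : Nonempty (Sylow q ↥X))
    rcases eq_or_ne ((Nat.card ↥X).factorization q) 0 with h0 | h0
    · simp [h0]
    have hqX : q ∣ Nat.card ↥X := Nat.dvd_of_factorization_pos h0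
    have hqp : q ≠ p := by
      rintro rfl
      exact hq.ne_one (Nat.Coprime.eq_one_of_dvd hX.symm hqX)
    have hd := hqX.trans (card_subgroup_dvd_card X)
    have hom : ∀ y ∈ X, y ^ q = 1 → n * y * n⁻¹ = y := by
      intro y hy hyq
      by_contra hyn
      refine hno ⟨q, omega q X, ⟨hq, hqp, elem_omega q X, ?_⟩, omega_le q X⟩
      refine S.three_le hq hqp hd (elem_omega q X) hn (mem_normalizer_of_conj fun z hz => ?_)
        ⟨y, mem_omega_of hy hyq, hyn⟩
      obtain ⟨hzX, hzq⟩ := mem_omega.mp hz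
      exact mem_omega_of (hnX' z hzX) (by rw [conj_pow, hzq, mul_one, mul_inv_cancel])
    have hPle : (P : Subgroup ↥X).map X.subtype ≤ X ⊓ centralizer ({n} : Set G) := by
      rintro _ ⟨y, hy, rfl⟩
      refine mem_inf.mpr ⟨y.2, ?_⟩
      obtain ⟨e, he⟩ := P.2 ⟨y, hy⟩
      have he' : (y : G) ^ q ^ e = 1 := by
        simpa using congrArg (fun z : ↥(P : Subgroup ↥X) => ((z : ↥X) : G)) he
      have := fixed_of_omega hq hqp S.hprime hn hnX' hom e y y.2 he'
      exact mem_centralizer_singleton_iff.mpr (mul_inv_eq_iff_eq_mul.mp this).symm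
    have hc : Nat.card ↥((P : Subgroup ↥X).map X.subtype) = q ^ (Nat.card ↥X).factorization q := by
      rw [card_map_of_injective X.subtype_injective, P.card_eq_multiplicity]
    exact (hq.pow_dvd_iff_le_factorization Nat.card_pos.ne').mp (hc ▸ card_dvd_of_le hPle)
  exact hxn (mul_inv_eq_iff_eq_mul.mpr (mem_centralizer_singleton_iff.mp (hle hxX).2).symm)

theorem coprime_of_isPGroup {q : ℕ} (hq : q.Prime) (hqp : q ≠ p) {X : Subgroup G}
    (hX : IsPGroup q ↥X) : (Nat.card ↥X).Coprime p := by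
  haveI := S.finite
  haveI := Fact.mk hq
  obtain ⟨k, hk⟩ := IsPGroup.iff_card.mp hX
  rw [hk]
  exact Nat.Coprime.pow_left k ((Nat.coprime_primes hq S.hprime).mpr hqp)

theorem sylow_comm {q : ℕ} (hq : q.Prime) (hqp : q ≠ p) (Q : Sylow q G) :
    IsMulCommutative ↥(Q : Subgroup G) := (S.hyp _ (S.coprime_of_isPGroup hq hqp Q.2)).1

theorem thick_omega {q : ℕ} [hqf : Fact q.Prime] (hqp : q ≠ p) (hd : q ∣ Nat.card G)
    (Q : Sylow q G) : Thick p q (omega q (Q : Subgroup G)) := by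
  haveI := S.finite
  haveI := S.factP
  haveI := S.simple
  have hq : q.Prime := hqf.out
  haveI := S.sylow_comm hq hqp Q
  have hQc := S.coprime_of_isPGroup hq hqp Q.2
  refine ⟨hq, hqp, elem_omega q _, ?_⟩
  have hnab : ¬ IsMulCommutative G := fun h =>
    S.nonsolv (Group.isSolvable_of_comm fun a b => mul_comm' a b)
  have hnot := SmallGroups.not_normalizer_le_centralizer hnab hd Q
  obtain ⟨g, hg, hgc⟩ := SetLike.not_le_iff_exists.mp hnot
  obtain ⟨i, j, hij, hi, hj⟩ := exists_parts S.hprime g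
  have hQne : (Q : Subgroup G) ≠ ⊥ := Q.ne_bot_of_dvd_card hd
  have hQtop : (Q : Subgroup G) ≠ ⊤ := fun h => by
    rw [h] at hQc
    exact S.nonsolv (Group.isSolvable_of_comm fun a b =>
      (S.hyp.comm hQc (mem_top a) (mem_top b)).eq)
  have hNtop := S.normalizer_ne_top hQne hQtop
  have hjc : g ^ j ∈ centralizer ((Q : Subgroup G) : Set G) := by
    obtain ⟨H, hH, hQH⟩ := S.exists_hall hNtop le_normalizer hQc
    obtain ⟨t, ht, hth⟩ := S.hall_conj hNtop hH (K := zpowers (g ^ j))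
      (zpowers_le.mpr (pow_mem hg j)) (coprime_zpowers.mpr hj)
    refine mem_centralizer_iff.mpr fun x hx => ?_
    have hxt : t⁻¹ * x * t ∈ (Q : Subgroup G) := by
      simpa using (mem_normalizer_iff.mp (inv_mem ht) x).mp hx
    have hcm := S.hyp.comm hH.2.1 (hQH hxt) (hth _ (mem_zpowers _))
    calc x * g ^ j = t * ((t⁻¹ * x * t) * (t⁻¹ * g ^ j * t)) * t⁻¹ := by group
      _ = t * ((t⁻¹ * g ^ j * t) * (t⁻¹ * x * t)) * t⁻¹ := by rw [hcm.eq]
      _ = g ^ j * x := by group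
  have hic : g ^ i ∉ centralizer ((Q : Subgroup G) : Set G) := fun h =>
    hgc (hij ▸ mul_mem h hjc)
  rw [mem_centralizer_iff] at hic
  push_neg at hic
  obtain ⟨x, hx, hxg⟩ := hic
  obtain ⟨q', B, hB, hBQ⟩ := S.thick_of_moved hQc hi (pow_mem hg i)
    ⟨x, hx, fun h => hxg (mul_inv_eq_iff_eq_mul.mp h).symm⟩
  obtain ⟨b, hb, hb1⟩ := hB.exists_ne_one
  have hqq : q' = q := by
    haveI := Fact.mk hB.prime
    have h1 : orderOf b = q' := orderOf_eq_prime (hB.elem.2 b hb) hb1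
    obtain ⟨k, hk⟩ := IsPGroup.iff_card.mp Q.2
    have h2 : q' ∣ q ^ k := h1 ▸ hk ▸ orderOf_dvd_natCard _ (hBQ hb)
    exact (Nat.prime_dvd_prime_iff_eq hB.prime hq).mp (hB.prime.dvd_of_dvd_pow h2)
  subst hqq
  exact hB.card.trans (Nat.le_of_dvd Nat.card_pos (card_dvd_of_le fun y hy =>
    mem_omega_of (hBQ hy) (hB.elem.2 y hy)))

end Std

end Cfsg.Agent.AbExp
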