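import Cfsg.Agent.AbExp.Main

/-!
Reduction to minimal simple groups.
-/

set_option autoImplicit false
set_option linter.all false
set_option maxHeartbeats 400000

open Subgroup

namespace Cfsg.Agent.AbExp

universe u

variable {p : ℕ}

theorem isSolvable_of_hyp [hp : Fact p.Prime] (G : Type u) [Group G] [Finite G] (h : Hyp p G) :
    Group.IsSolvable G := by
  suffices key : ∀ (n : ℕ) (G : Type u) [Group G] [Finite G], Nat.card G ≤ n → Hyp p G →
      Group.IsSolvable G from key _ G le_rfl h
  intro n
  induction n using Nat.strong_induction_on with
  | _ n ih =>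
    intro G _ _ hn h
    rcases Nat.lt_or_ge p 5 with hp5 | hp5
    · exact isSolvable_small h hp5
    have hsub : ∀ K : Subgroup G, K ≠ ⊤ → Group.IsSolvable ↥K := fun K hK =>
      ih (Nat.card ↥K) (((card_le_card_group K).lt_of_ne fun he => hK (eq_top_of_card_eq K he)).trans_le hn)
        ↥K le_rfl (h.subgroup K)
    by_contra hns
    by_cases hex : ∃ N : Subgroup G, N.Normal ∧ N ≠ ⊥ ∧ N ≠ ⊤
    · obtain ⟨N, hN, hNb, hNt⟩ := hex
      haveI := hN
      haveI := hsub N hNt
      apply hns
      have hq : Group.IsSolvable (G ⧸ N) := by
        by_cases hpq : p ∣ Nat.card (G ⧸ N)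
        · refine ih _ (lt_of_lt_of_le ?_ hn) _ le_rfl (h.quotient N hpq hsub)
          rw [Subgroup.card_eq_card_quotient_mul_card_subgroup N]
          exact lt_mul_of_one_lt_right Nat.card_pos ((one_lt_card_iff_ne_bot N).mpr hNb)
        · obtain ⟨P⟩ := (inferInstance : Nonempty (Sylow p G))
          have hPN : (P : Subgroup G) ≤ N := fun x hx => by
            obtain ⟨k, hk⟩ := P.2 ⟨x, hx⟩
            have hk' : x ^ p ^ k = 1 := by simpa using congrArg Subtype.val hk
            refine (QuotientGroup.eq_one_iff x).mp (orderOf_eq_one_iff.mp ?_)
            refine Nat.eq_one_of_dvd_coprimes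
              (((hp.out.coprime_iff_not_dvd).mpr hpq).pow_left k) ?_ (orderOf_dvd_natCard _)
            exact orderOf_dvd_of_pow_eq_one (by
              rw [← QuotientGroup.mk_pow, hk']; rfl)
          by_cases hPn : normalizer ((P : Subgroup G) : Set G) = ⊤
          · haveI : (P : Subgroup G).Normal := normalizer_eq_top_iff.mp hPn
            obtain ⟨K, hK⟩ := exists_right_complement'_of_coprime P.card_coprime_index
            have hKc : (Nat.card ↥K).Coprime p := by
              rw [← hK.symm.index_eq_card]
              exact (hp.out.coprime_iff_not_dvd.mpr P.not_dvd_index).symm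
            haveI := (h K hKc).1
            haveI : Group.IsSolvable ↥K := Group.isSolvable_of_comm fun a b => mul_comm' a b
            refine Group.isSolvable_of_surjective (G := ↥K)
              (f := (QuotientGroup.mk' N).comp K.subtype) ?_
            · intro x
              obtain ⟨g, rfl⟩ := QuotientGroup.mk'_surjective N x
              obtain ⟨⟨⟨u, hu⟩, ⟨w, hw⟩⟩, huw⟩ := hK.2 g
              refine ⟨⟨w, hw⟩, ?_⟩
              show QuotientGroup.mk' N w = QuotientGroup.mk' N g
              have huw' : u * w = g := huw
              rw [← huw', map_mul, show QuotientGroup.mk' N u = 1 from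
                (QuotientGroup.eq_one_iff u).mpr (hPN hu), one_mul]
          · haveI := hsub _ hPn
            refine Group.isSolvable_of_surjective
              (f := (QuotientGroup.mk' N).comp (normalizer ((P : Subgroup G) : Set G)).subtype) ?_
            intro x
            obtain ⟨g, rfl⟩ := QuotientGroup.mk'_surjective N x
            have hg : g ∈ normalizer ((P : Subgroup G) : Set G) ⊔ N := by
              rw [show normalizer ((P : Subgroup G) : Set G) ⊔ N = ⊤ from Sylow.normalizer_sup_eq_top' P hPN]
              exact mem_top g
            obtain ⟨a, ha, b, hb, rfl⟩ := mem_sup_of_normal_right.mp hg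
            refine ⟨⟨a, ha⟩, ?_⟩
            show QuotientGroup.mk' N a = QuotientGroup.mk' N (a * b)
            rw [map_mul, show QuotientGroup.mk' N b = 1 from (QuotientGroup.eq_one_iff b).mpr hb,
              mul_one]
      exact Group.isSolvable_of_ker_le_range N.subtype (QuotientGroup.mk' N)
        (by rw [QuotientGroup.ker_mk', Subgroup.range_subtype])
    · push_neg at hex
      haveI : Nontrivial G := by
        by_contra hnt
        rw [not_nontrivial_iff_subsingleton] at hnt
        exact hns (Group.isSolvable_of_comm fun a b => Subsingleton.elim _ _)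
      have hsimp : IsSimpleGroup G := ⟨fun N hN => or_iff_not_imp_left.mpr (hex N hN)⟩
      exact Std.false_of_std ⟨hp.out, hp5, inferInstance, hsimp, hns, hsub, h⟩

end Cfsg.Agent.AbExp
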