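import Cfsg.Agent.AbExp.Rank
import Cfsg.Agent.Signal38.Transitivity

/-!
The `p`-cores of the centralisers of the elements of a thick subgroup generate a `p`-group, and
this produces a proper subgroup containing all these centralisers.
-/

set_option autoImplicit false
set_option linter.all false
set_option maxHeartbeats 400000

open Subgroup

namespace Cfsg.Agent.AbExp

variable {G : Type*} [Group G] {p : ℕ}

theorem mem_of_commute {H : Subgroup G} {x : G} (h : ∀ y ∈ H, Commute y x) :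
    x ∈ centralizer (H : Set G) := mem_centralizer_iff.mpr h

theorem pel_of_mem [Finite G] [Fact p.Prime] {V : Subgroup G} (hV : IsPGroup p ↥V) {x : G}
    (hx : x ∈ V) : PEl p x := by
  obtain ⟨k, hk⟩ := hV ⟨x, hx⟩
  exact ⟨k, by simpa using congrArg Subtype.val hk⟩

/-- A `p`-element of `V ⊔ H` lies in `V` when `V` is a `p`-group and `H` a normalising `p'`-group. -/
theorem pel_mem_of_mem_sup [Finite G] [Fact p.Prime] {V H : Subgroup G} (hV : IsPGroup p ↥V)
    (hH : (Nat.card ↥H).Coprime p) (hn : H ≤ normalizer (V : Set G)) {g : G} (hg : g ∈ V ⊔ H)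
    (hp : PEl p g) : g ∈ V := by
  rw [sup_comm, ← SetLike.mem_coe, Subgroup.coe_mul_of_left_le_normalizer_right H V hn] at hg
  obtain ⟨h, hh, v, hv, rfl⟩ := hg
  have key : ∀ n : ℕ, ∃ w ∈ V, (h * v) ^ n = h ^ n * w := by
    intro n
    induction n with
    | zero => exact ⟨1, V.one_mem, by simp⟩
    | succ n ih =>
      obtain ⟨w, hw, he⟩ := ih
      refine ⟨(h⁻¹ * w * h) * v, V.mul_mem ?_ hv, ?_⟩
      · simpa using (mem_normalizer_iff.mp (hn (H.inv_mem hh)) w).mp hw
      · rw [pow_succ, he, pow_succ]; group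
  obtain ⟨k, hk⟩ := hp
  obtain ⟨w, hw, he⟩ := key (p ^ k)
  rw [hk] at he
  have hhV : h ^ p ^ k ∈ V := by
    rw [eq_inv_of_mul_eq_one_left he.symm]; exact V.inv_mem hw
  obtain ⟨l, hl⟩ := pel_of_mem hV hhV
  have h1 : h = 1 := coprime_pel ⟨k + l, by rw [pow_add, pow_mul, hl]⟩ (coprime_orderOf hH hh)
  simpa [h1] using hv

theorem mem_sylow_of_commute [Finite G] {q : ℕ} [Fact q.Prime] (Q : Sylow q G) {y : G} {k : ℕ}
    (hy : y ^ q ^ k = 1) (hc : ∀ x ∈ (Q : Subgroup G), Commute x y) : y ∈ (Q : Subgroup G) := by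
  have hz : IsPGroup q ↥(zpowers y) := by
    rintro ⟨z, hz⟩
    obtain ⟨i, rfl⟩ := mem_zpowers_iff.mp hz
    exact ⟨k, Subtype.ext (by
      rw [SubmonoidClass.coe_pow, ← zpow_natCast, ← zpow_mul, mul_comm, zpow_mul, zpow_natCast, hy,
        one_zpow, OneMemClass.coe_one])⟩
  have hn : zpowers y ≤ normalizer ((Q : Subgroup G) : Set G) := by
    rw [zpowers_le]
    exact centralizer_le_normalizer _ (mem_centralizer_iff.mpr hc)
  have h := hz.to_sup_of_normal_right' Q.2 hn
  rw [← Q.3 h le_sup_right]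
  exact mem_sup_left (mem_zpowers y)

theorem conj_op_le [Finite G] [Fact p.Prime] {S T : Subgroup G} (g : G)
    (h : S.map (MulAut.conj g).toMonoidHom = T) :
    (op p S).map (MulAut.conj g).toMonoidHom ≤ op p T := by
  subst h
  refine le_op (map_mono (op_le p S)) ((op_isPGroup S).map _) ?_
  refine Coprime.le_normalizer_of_conj_mem ?_
  rintro _ ⟨s, hs, rfl⟩ _ ⟨v, hv, rfl⟩
  exact ⟨s * v * s⁻¹, (mem_normalizer_iff.mp (op_normal p S hs) v).mp hv, by simp [mul_assoc]⟩

theorem conj_centralizer (g e : G) :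
    (centralizer ({e} : Set G)).map (MulAut.conj g).toMonoidHom =
      centralizer ({g * e * g⁻¹} : Set G) := by
  ext x
  constructor
  · rintro ⟨c, hc, rfl⟩
    have := mem_centralizer_singleton_iff.mp hc
    refine mem_centralizer_singleton_iff.mpr ?_
    simp only [MulEquiv.toMonoidHom_eq_coe, MonoidHom.coe_coe, MulAut.conj_apply]
    calc g * c * g⁻¹ * (g * e * g⁻¹) = g * (c * e) * g⁻¹ := by group
      _ = g * (e * c) * g⁻¹ := by rw [this]
      _ = g * e * g⁻¹ * (g * c * g⁻¹) := by group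
  · intro hx
    have := mem_centralizer_singleton_iff.mp hx
    refine ⟨g⁻¹ * x * g, mem_centralizer_singleton_iff.mpr ?_, ?_⟩
    · calc g⁻¹ * x * g * e = g⁻¹ * (x * (g * e * g⁻¹)) * g := by group
        _ = g⁻¹ * (g * e * g⁻¹ * x) * g := by rw [this]
        _ = e * (g⁻¹ * x * g) := by group
    · simp only [MulEquiv.toMonoidHom_eq_coe, MonoidHom.coe_coe, MulAut.conj_apply]
      group

namespace Std

variable (S : Std p G)
include S

theorem balance {q : ℕ} {A : Subgroup G} (hA : Thick p q A) {a b : G} (ha : a ∈ A) (ha1 : a ≠ 1)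
    (hb : b ∈ A) (hb1 : b ≠ 1) :
    op p (centralizer {a}) ⊓ centralizer {b} ≤ op p (centralizer {b}) := by
  haveI := S.finite
  haveI := S.factP
  haveI := hA.comm
  have hAle : ∀ e ∈ A, A ≤ centralizer ({e} : Set G) := fun e he y hy =>
    mem_centralizer_singleton_iff.mpr (S.hyp.comm (hA.coprime S.hprime) hy he).eq
  obtain ⟨H, hH, hAH⟩ := S.exists_hall (S.centralizer_ne_top hb1) (hAle b hb) (hA.coprime S.hprime)
  set V := op p (centralizer ({b} : Set G)) with hV
  have hVp : IsPGroup p ↥V := op_isPGroup _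
  have hHV : H ≤ normalizer (V : Set G) := hH.1.trans (op_normal p _)
  have hHa : H ≤ centralizer ({a} : Set G) := fun h hh =>
    mem_centralizer_singleton_iff.mpr (S.hyp.comm hH.2.1 hh (hAH ha)).eq
  obtain ⟨hn, -, hc⟩ := S.structure_hall (S.centralizer_ne_top hb1) hH
  rintro x ⟨hxa, hxb⟩
  have hcomm : ∀ h ∈ H, h * x * h⁻¹ * x⁻¹ ∈ V := by
    intro h hh
    have h1 : h * x * h⁻¹ * x⁻¹ ∈ op p (centralizer ({a} : Set G)) :=
      mul_mem ((mem_normalizer_iff.mp (op_normal p _ (hHa hh)) x).mp hxa) (inv_mem hxa)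
    have h2 : h * x * h⁻¹ * x⁻¹ ∈ V ⊔ H := by
      have : x * h⁻¹ * x⁻¹ ∈ V ⊔ H :=
        (mem_normalizer_iff.mp (hn hxb) h⁻¹).mp (mem_sup_right (inv_mem hh))
      simpa [mul_assoc] using mul_mem (mem_sup_right hh : h ∈ V ⊔ H) this
    exact pel_mem_of_mem_sup hVp hH.2.1 hHV h2 (pel_of_mem (op_isPGroup _) h1)
  obtain ⟨k, hk⟩ := IsPGroup.iff_card.mp hVp
  obtain ⟨v, hv, hvc⟩ := Coprime.exists_fixed_in_coset_of_normal H V hHV
    (by rw [hk]; exact hH.2.1.pow_right k) (Or.inr (Coprime.isSolvable_of_isNilpotent' hVp.isNilpotent))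
    x (op_normal p _ hxb) hcomm
  obtain ⟨w, hw, h, hh, he⟩ := hc (x * v) (mul_mem hxb (op_le p _ hv))
    fun h hh => ((mem_centralizer_iff.mp hvc h hh).symm : (x * v) * h = h * (x * v))
  have : x ∈ V ⊔ H := by
    have : x * v ∈ V ⊔ H := he ▸ mul_mem (mem_sup_left hw) (mem_sup_right hh)
    simpa using mul_mem this (inv_mem (mem_sup_left hv : v ∈ V ⊔ H))
  exact pel_mem_of_mem_sup hVp hH.2.1 hHV this (pel_of_mem (op_isPGroup _) hxa)

theorem exists_core {q : ℕ} {A : Subgroup G} (hA : Thick p q A) :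
    ∃ X : Subgroup G, IsPGroup p ↥X ∧ normalizer (A : Set G) ≤ normalizer (X : Set G) ∧
      ∀ a ∈ A, a ≠ 1 → op p (centralizer {a}) ≤ X := by
  haveI := S.finite
  haveI := S.factP
  haveI := Fact.mk hA.prime
  haveI := hA.comm
  set θ : G → Subgroup G := fun a => op p (centralizer ({a} : Set G)) with hθdef
  have hθp : ∀ a ∈ A, a ≠ 1 → IsPGroup p ↥(θ a) := fun a _ _ => op_isPGroup _
  have hθ : Cfsg.IsSolvableSignalizerFunctor q A θ := by
    refine ⟨⟨fun a _ _ => op_le p _, fun a ha ha1 hd => ?_, fun a ha ha1 b hb x hx => ?_,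
      fun a ha ha1 b hb hb1 => S.balance hA ha ha1 hb hb1⟩,
      fun a ha ha1 => Coprime.isSolvable_of_isNilpotent' (hθp a ha ha1).isNilpotent⟩
    · obtain ⟨k, hk⟩ := IsPGroup.iff_card.mp (hθp a ha ha1)
      rw [hk] at hd
      exact hA.ne ((Nat.prime_dvd_prime_iff_eq hA.prime S.hprime).mp (hA.prime.dvd_of_dvd_pow hd))
    · refine (mem_normalizer_iff.mp (op_normal p _ ?_) x).mp hx
      exact mem_centralizer_singleton_iff.mpr (S.hyp.comm (hA.coprime S.hprime) hb ha).eq
  obtain ⟨-, X, hXinv, hXq, hXfix⟩ := Signal38.isComplete_of_isPGroup hA.elem hA.card hθ hθp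
  have hAX : A ≤ normalizer (X : Set G) := Coprime.le_normalizer_of_conj_mem hXinv
  obtain ⟨j, hj⟩ := IsPGroup.iff_card.mp (elem_isPGroup hA.elem)
  have hcop : ∀ Y : Subgroup G, ¬ q ∣ Nat.card ↥Y → (Nat.card ↥A).Coprime (Nat.card ↥Y) :=
    fun Y hY => hj ▸ ((hA.prime.coprime_iff_not_dvd.mpr hY).pow_left j)
  have hXp : IsPGroup p ↥X := by
    refine IsPGroup.of_card (n := (Nat.card ↥X).primeFactorsList.length)
      (Nat.eq_prime_pow_of_unique_prime_dvd Nat.card_pos.ne' fun {r} hr hd => ?_)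
    by_contra hrp
    haveI := Fact.mk hr
    obtain ⟨R, hR⟩ := Coprime.exists_invariant_sylow A X hAX (hcop X hXq)
      (Or.inl (Group.isSolvable_of_comm fun a b => mul_comm' a b)) r
    set R' := (R : Subgroup ↥X).map X.subtype with hR'
    have hRr : IsPGroup r ↥R' := R.2.map _
    have hbot : R' ≤ ⊥ := Coprime.le_of_centralizer_le A R' ⊥ hA.not_isCyclic hR
      ((hcop X hXq).coprime_dvd_right (card_dvd_of_le (map_subtype_le _)))
      fun e he he1 y hy => by
        have hyθ : y ∈ θ e := by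
          rw [← hXfix e he he1]
          exact mem_inf.mpr ⟨map_subtype_le _ hy.1, hy.2⟩
        obtain ⟨k, hk⟩ := hRr ⟨y, hy.1⟩
        obtain ⟨l, hl⟩ := pel_of_mem (hθp e he he1) hyθ
        have hk' : y ^ r ^ k = 1 := by simpa using congrArg Subtype.val hk
        exact mem_bot.mpr (orderOf_eq_one_iff.mp (Nat.eq_one_of_dvd_coprimes
          (((Nat.coprime_primes hr S.hprime).mpr hrp).pow k l)
          (orderOf_dvd_of_pow_eq_one hk') (orderOf_dvd_of_pow_eq_one hl)))
    refine R.ne_bot_of_dvd_card hd ?_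
    exact (Subgroup.map_eq_bot_iff_of_injective _ X.subtype_injective).mp (le_bot_iff.mp hbot)
  refine ⟨X, hXp, fun n hn => ?_, fun a ha ha1 => (hXfix a ha ha1).symm.le.trans inf_le_left⟩
  refine mem_normalizer_of_conj fun x hx => ?_
  have hle : X ≤ X.comap (MulAut.conj n).toMonoidHom := by
    refine Coprime.le_of_centralizer_le A X _ hA.not_isCyclic hAX (hcop X hXq) fun e he he1 y hy => ?_
    have hyθ : y ∈ θ e := by rw [← hXfix e he he1]; exact hy
    have he' : n * e * n⁻¹ ∈ A := (mem_normalizer_iff.mp hn e).mp he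
    have he'1 : n * e * n⁻¹ ≠ 1 := fun h => he1 (by
      have := congrArg (fun z => n⁻¹ * z * n) h
      simpa [mul_assoc] using this)
    have h1 : n * y * n⁻¹ ∈ θ (n * e * n⁻¹) :=
      conj_op_le n (conj_centralizer n e) ⟨y, hyθ, rfl⟩
    rw [← hXfix _ he' he'1] at h1
    exact h1.1
  exact hle hx

end Std

end Cfsg.Agent.AbExp
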