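import Cfsg.Agent.AbExp.Big
import Cfsg.Agent.LocalEven61.QdStability
import Cfsg.Agent.Lib.LinearGroup.Generation
import Cfsg.Agent.S1934
import Cfsg.Agent.PLocalB.ZJFailure
import Cfsg.Agent.PLocalB.NormalPComplementZJ

/-!
The two kinds of attached subgroups: those with a normal Hall subgroup and those containing the
normaliser of `Z(J(P))`.
-/

set_option autoImplicit false
set_option linter.all false
set_option maxHeartbeats 400000

open Subgroup
open scoped Pointwise

namespace Cfsg.Agent.AbExp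

variable {G : Type*} [Group G] {p : ℕ}

/-- `M` has a normal Hall `p'`-subgroup. -/
def NType (p : ℕ) (M : Subgroup G) : Prop :=
  ∃ H : Subgroup G, IsHall p M H ∧ M ≤ normalizer (H : Set G)

theorem lt_inf_normalizer [Finite G] [Fact p.Prime] {P D : Subgroup G} (hP : IsPGroup p ↥P)
    (h : D < P) : D < P ⊓ normalizer (D : Set G) := by
  haveI : Group.IsNilpotent ↥P := hP.isNilpotent
  have hlt : D.subgroupOf P < ⊤ := lt_top_iff_ne_top.mpr fun he =>
    h.not_ge fun x hx => mem_subgroupOf.mp (he ▸ mem_top (⟨x, hx⟩ : ↥P))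
  have h2 := Group.normalizerCondition_of_isNilpotent _ hlt
  refine lt_of_le_not_ge (le_inf h.le le_normalizer) fun hge => h2.not_ge fun n hn => ?_
  refine mem_subgroupOf.mpr (hge ⟨n.2, mem_normalizer_of_conj fun d hd => ?_⟩)
  exact mem_subgroupOf.mp ((mem_normalizer_iff.mp hn ⟨d, h.le hd⟩).mp (mem_subgroupOf.mpr hd))

theorem zj_le' [Finite G] [Fact p.Prime] (P : Sylow p G) :
    Cfsg.centerThompsonAOf (P : Subgroup G) ≤ (P : Subgroup G) := PLocalB.ZJFail.zj_le P

namespace Std

variable (S : Std p G)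
include S

theorem not_solvable_sl : ¬ Group.IsSolvable (Matrix.SpecialLinearGroup (Fin 2) (ZMod p)) := by
  haveI := S.factP
  intro h
  have h2 : (2 : ZMod p) ≠ 0 ∧ (2 : ZMod p) ^ 2 ≠ 1 := by
    have h5 := S.five
    refine ⟨fun hz => ?_, fun hz => ?_⟩
    · have := (ZMod.natCast_eq_zero_iff 2 p).mp (by exact_mod_cast hz) |> Nat.le_of_dvd (by norm_num)
      omega
    · have h3 : ((3 : ℕ) : ZMod p) = 0 := by
        push_cast
        linear_combination hz
      have := Nat.le_of_dvd (by norm_num) ((ZMod.natCast_eq_zero_iff 3 p).mp h3)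
      omega
  have htop := LinearGroup.commutator_SL_eq_top' (ι := Fin 2) (F := ZMod p) fun _ => ⟨2, h2⟩
  haveI := h
  haveI : Nontrivial (Matrix.SpecialLinearGroup (Fin 2) (ZMod p)) :=
    ⟨⟨-1, 1, fun he => h2.1 (by
      have := congrArg (fun A : Matrix.SpecialLinearGroup (Fin 2) (ZMod p) =>
        (A : Matrix (Fin 2) (Fin 2) (ZMod p)) 0 0) he
      simp at this
      linear_combination -this)⟩⟩
  have := Group.IsSolvable.commutator_lt_top_of_nontrivial (Matrix.SpecialLinearGroup (Fin 2) (ZMod p))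
  exact this.ne htop

theorem not_involves_qd : ¬ Cfsg.Involves ↥(Cfsg.qd p) G := by
  haveI := S.finite
  haveI := S.factP
  haveI := S.simple
  intro h
  obtain ⟨K, f, hf⟩ := LocalEven61.exists_surjective_of_involves h
  let g : ↥K →* Matrix.SpecialLinearGroup (Fin 2) (ZMod p) :=
    (LocalEven61.qdLin (F := ZMod p)).comp f
  have hg : Function.Surjective g := LocalEven61.qdLin_surjective.comp hf
  by_cases hK : K = ⊤
  · subst hK
    let g' : G →* Matrix.SpecialLinearGroup (Fin 2) (ZMod p) :=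
      g.comp (Subgroup.topEquiv (G := G)).symm.toMonoidHom
    have hg' : Function.Surjective g' := hg.comp (Subgroup.topEquiv (G := G)).symm.surjective
    rcases (inferInstance : g'.ker.Normal).eq_bot_or_eq_top with hk | hk
    · have hinj : Function.Injective g' := (MonoidHom.ker_eq_bot_iff g').mp hk
      obtain ⟨z, hz⟩ := hg' (-1)
      have hzc : z ∈ center G := mem_center_iff.mpr fun a => hinj (by
        rw [map_mul, map_mul, hz]
        refine Subtype.ext ?_
        simp)
      rw [S.center_eq_bot, mem_bot] at hzc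
      subst hzc
      rw [map_one] at hz
      have h2 := congrArg (fun A : Matrix.SpecialLinearGroup (Fin 2) (ZMod p) =>
        (A : Matrix (Fin 2) (Fin 2) (ZMod p)) 0 0) hz
      simp at h2
      have h3 : ((2 : ℕ) : ZMod p) = 0 := by
        push_cast
        linear_combination h2
      have := Nat.le_of_dvd (by norm_num) ((ZMod.natCast_eq_zero_iff 2 p).mp h3)
      have := S.five
      omega
    · refine S.not_solvable_sl (Group.isSolvable_of_comm fun a b => ?_)
      obtain ⟨x, rfl⟩ := hg' a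
      rw [(MonoidHom.mem_ker (f := g')).mp (hk ▸ mem_top x), one_mul, mul_one]
  · haveI := S.psolv K hK
    exact S.not_solvable_sl (Group.isSolvable_of_surjective hg)

theorem stable : Cfsg.IsNormalizerPStable p G := by
  haveI := S.finite
  haveI := S.factP
  exact LocalEven61.isNormalizerPStable_of_not_involves (by have := S.five; omega) S.not_involves_qd

/-- Fusion of `p`-elements is controlled by the normaliser of `Z(J(P))`. -/
theorem control (P : Sylow p G) {A : Set G} (hA : A ⊆ (P : Subgroup G)) {g : G}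
    (hg : (fun a => g * a * g⁻¹) '' A ⊆ (P : Subgroup G)) :
    ∃ x ∈ normalizer (Cfsg.centerThompsonAOf (P : Subgroup G) : Set G),
      ∀ a ∈ A, g * a * g⁻¹ = x * a * x⁻¹ := by
  haveI := S.finite
  haveI := S.factP
  exact (S1934.result p (by have := S.five; omega) S.stable P A hA).2 g hg

theorem preg_mem {M H : Subgroup G} (hM : M ≠ ⊤) (hH : IsHall p M H)
    (hn : M ≤ normalizer (H : Set G)) {x : G} (hx : x ∈ M) (hxo : (orderOf x).Coprime p) : x ∈ H :=
  S.eq_of_normalizes hH hM hx (hn hx) hxo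

theorem thick_fixed {M H : Subgroup G} (hM : Big p M) (hH : IsHall p M H)
    (hn : M ≤ normalizer (H : Set G)) {x : G} (hx : x ∈ H) (hx1 : x ≠ 1) :
    ∀ (m : ℕ) (D : Subgroup G), Nat.card G - Nat.card ↥D ≤ m → D ≤ M → IsPGroup p ↥D →
      (∀ d ∈ D, Commute d x) → ∃ q B, Thick p q B ∧ B ≤ H ⊓ centralizer (D : Set G) := by
  haveI := S.finite
  haveI := S.factP
  intro m
  induction m using Nat.strong_induction_on with
  | _ m ih =>
    intro D hm hDM hD hDx
    have hXc : (Nat.card ↥(H ⊓ centralizer (D : Set G))).Coprime p :=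
      hH.2.1.coprime_dvd_left (card_dvd_of_le inf_le_left)
    by_cases hmv : ∃ n ∈ M ⊓ normalizer (D : Set G),
        PEl p n ∧ ∃ y ∈ H ⊓ centralizer (D : Set G), n * y * n⁻¹ ≠ y
    · obtain ⟨n, hn', hnp, hy⟩ := hmv
      refine S.thick_of_moved hXc hnp ?_ hy
      exact Coprime.le_normalizer_inf (A := M ⊓ normalizer (D : Set G)) (inf_le_left.trans hn)
        (Coprime.le_normalizer_centralizer inf_le_right) hn'
    · push_neg at hmv
      have hxX : x ∈ H ⊓ centralizer (D : Set G) := ⟨hx, mem_centralizer_iff.mpr hDx⟩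
      have hD' : IsPGroup p ↥(D.subgroupOf M) := hD.of_equiv (subgroupOfEquivOfLe hDM).symm
      obtain ⟨P0, hP0⟩ := hD'.exists_le_sylow
      rcases lt_or_eq_of_le hP0 with hlt | heq
      · have hlt' : D.subgroupOf M < (P0 : Subgroup ↥M) ⊓
            normalizer ((D.subgroupOf M : Subgroup ↥M) : Set ↥M) :=
          lt_inf_normalizer P0.2 hlt
        set E := ((P0 : Subgroup ↥M) ⊓
            normalizer ((D.subgroupOf M : Subgroup ↥M) : Set ↥M)).map M.subtype with hE
        have hEM : E ≤ M := map_subtype_le _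
        have hEp : IsPGroup p ↥E := (P0.2.to_le inf_le_left).map _
        have hcard : Nat.card ↥D < Nat.card ↥E := by
          rw [hE, card_map_of_injective M.subtype_injective,
            ← Nat.card_congr (subgroupOfEquivOfLe hDM).toEquiv]
          exact Set.Finite.card_lt_card (Set.toFinite _) hlt'
        have hEx : ∀ e ∈ E, Commute e x := by
          rintro _ ⟨e, he, rfl⟩
          have heN : (e : G) ∈ normalizer (D : Set G) := mem_normalizer_of_conj fun d hd =>
            mem_subgroupOf.mp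
              ((mem_normalizer_iff.mp he.2 ⟨d, hDM hd⟩).mp (mem_subgroupOf.mpr hd))
          have h1 := hmv (e : G) ⟨e.2, heN⟩ (pel_of_mem hEp ⟨e, he, rfl⟩) x hxX
          exact mul_inv_eq_iff_eq_mul.mp h1
        have hDE : D ≤ E := fun d hd =>
          ⟨⟨d, hDM hd⟩, hlt'.le (mem_subgroupOf.mpr hd), rfl⟩
        have hEG : Nat.card ↥E ≤ Nat.card G := card_le_card_group E
        obtain ⟨q, B, hB, hBE⟩ := ih (Nat.card G - Nat.card ↥E) (by omega) E le_rfl hEM hEp hEx
        exact ⟨q, B, hB, hBE.trans (inf_le_inf_left _ (centralizer_le hDE))⟩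
      · exfalso
        obtain ⟨hHM, hHc, k, hk⟩ := hH
        have hle : M ≤ centralizer ({x} : Set G) := by
          set E := M ⊓ centralizer ({x} : Set G) with hE
          have hH' : H ≤ E := le_inf hHM fun h hh =>
            mem_centralizer_singleton_iff.mpr (S.hyp.comm hHc hh hx).eq
          have hD'' : D ≤ E := le_inf hDM fun d hd => mem_centralizer_singleton_iff.mpr (hDx d hd).eq
          have hcD : Nat.card ↥D = p ^ k := by
            rw [← Nat.card_congr (subgroupOfEquivOfLe hDM).toEquiv, heq, P0.card_eq_multiplicity, hk,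
              Nat.factorization_mul Nat.card_pos.ne' (pow_ne_zero _ S.hprime.ne_zero)]
            congr 1
            rw [Finsupp.coe_add, Pi.add_apply, Nat.factorization_eq_zero_of_not_dvd
              (S.hprime.coprime_iff_not_dvd.mp hHc.symm), Nat.Prime.factorization_pow S.hprime,
              Finsupp.single_eq_same, zero_add]
          have hdvd : Nat.card ↥M ∣ Nat.card ↥E := by
            rw [hk]
            exact (hHc.pow_right k).mul_dvd_of_dvd_of_dvd (card_dvd_of_le hH')
              (hcD ▸ card_dvd_of_le hD'')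
          exact (eq_of_le_of_card_ge inf_le_left (Nat.le_of_dvd Nat.card_pos hdvd)).ge.trans inf_le_right
        exact hx1 (S.transfer_fix hM ⟨hHM, hHc, k, hk⟩ hx fun n hn' _ =>
          mem_centralizer_singleton_iff.mp (hle hn'.1))

/-- In an attached subgroup with normal Hall subgroup, a `p`-element commuting with a nontrivial
`p'`-element has its centraliser inside. -/
theorem claimC {M : Subgroup G} (hM : Big p M) (hN : NType p M) {x y : G} (hx : x ∈ M)
    (hxr : PReg p x) (hy : y ∈ M) (hyp : PEl p y) (hy1 : y ≠ 1) (hc : Commute y x) :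
    centralizer ({y} : Set G) ≤ M := by
  haveI := S.finite
  haveI := S.factP
  obtain ⟨H, hH, hn⟩ := hN
  have hxH := S.preg_mem (S.big_ne_top hM) hH hn hx hxr.1
  have hD : IsPGroup p ↥(zpowers y) := by
    rintro ⟨z, hz⟩
    obtain ⟨k, hk⟩ := hyp
    obtain ⟨i, rfl⟩ := mem_zpowers_iff.mp hz
    exact ⟨k, Subtype.ext (by
      rw [SubmonoidClass.coe_pow, ← zpow_natCast, ← zpow_mul, mul_comm, zpow_mul, zpow_natCast, hk,
        one_zpow, OneMemClass.coe_one])⟩
  obtain ⟨q, B, hB, hBH⟩ := S.thick_fixed hM hH hn hxH hxr.2 _ (zpowers y) le_rfl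
    (zpowers_le.mpr hy) hD (fun d hd => by
      obtain ⟨i, rfl⟩ := mem_zpowers_iff.mp hd
      exact hc.zpow_left i)
  exact S.big_le_of_thick hM (S.centralizer_ne_top hy1) hB ((hBH.trans inf_le_left).trans hH.1)
    fun b hb => mem_centralizer_singleton_iff.mpr
      (mem_centralizer_iff.mp (hBH hb).2 y (mem_zpowers y)).symm

set_option maxHeartbeats 1600000 in
theorem exists_ctrl_aux {M H : Subgroup G} (hM : Big p M) (hH : IsHall p M H)
    (hN : ¬ M ≤ normalizer (H : Set G)) (T : Sylow p ↥M) :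
    ∃ q B, Thick p q B ∧ B ≤ M ⊓
      (normalizer (Cfsg.centerThompsonAOf (T : Subgroup ↥M) : Set ↥M)).map M.subtype := by
  haveI := S.finite
  haveI := S.factP
  have hMtop := S.big_ne_top hM
  set K := M ⊓ (normalizer (Cfsg.centerThompsonAOf (T : Subgroup ↥M) : Set ↥M)).map M.subtype with hK
  have hKM : K ≤ M := inf_le_left
  have hKtop : K ≠ ⊤ := fun h => hMtop (top_le_iff.mp (h ▸ hKM))
  obtain ⟨HK, hHK, -⟩ := S.exists_hall hKtop (bot_le : (⊥ : Subgroup G) ≤ K) (by simp)
  by_contra hno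
  have hcomm : ∀ m ∈ K ⊓ normalizer (HK : Set G), ∀ h ∈ HK, Commute m h := by
    intro m hm
    obtain ⟨i, j, hij, hi, hj⟩ := exists_parts S.hprime m
    intro h hh
    have h2 : Commute (m ^ j) h := S.hyp.comm hHK.2.1
      (S.eq_of_normalizes hHK hKtop (pow_mem hm.1 j) (pow_mem hm.2 j) hj) hh
    have h1 : Commute (m ^ i) h := by
      by_contra hne
      obtain ⟨q, B, hB, hBK⟩ := S.thick_of_moved hHK.2.1 hi (pow_mem hm.2 i)
        ⟨h, hh, fun he => hne (mul_inv_eq_iff_eq_mul.mp he)⟩
      exact hno ⟨q, B, hB, hBK.trans hHK.1⟩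
    exact hij ▸ h1.mul_left h2
  obtain ⟨hKn, hK2, hK3⟩ := S.structure_hall hKtop hHK
  have hKeq : ∀ k ∈ K, k ∈ op p K ⊔ HK := by
    intro k hk
    obtain ⟨v, hv, n, hn, rfl⟩ := hK2 k hk
    obtain ⟨w, hw, h, hh, rfl⟩ := hK3 n hn.1 (hcomm n hn)
    exact mul_mem (mem_sup_left hv) (mul_mem (mem_sup_left hw) (mem_sup_right hh))
  -- control inside `M`
  set C := centralizer ((Cfsg.pCore p ↥M : Subgroup ↥M) : Set ↥M) with hC
  haveI hCn : C.Normal := Subgroup.normal_centralizer
  set π := QuotientGroup.mk' C with hπ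
  have hVT : (Cfsg.pCore p ↥M : Subgroup ↥M) ≤ (T : Subgroup ↥M) := Thompson.pCore_le_sylow T
  have hctl := (S1934.result p (by have := S.five; omega)
    (Fus93.PStable.isNormalizerPStable_subgroup S.stable M) T (Cfsg.pCore p ↥M : Subgroup ↥M) hVT).2
  have hsurj : ∀ a : ↥M, ∃ b : ↥M, (b : G) ∈ K ∧ π a = π b := by
    intro a
    obtain ⟨b, hb, hba⟩ := hctl a (by
      rintro _ ⟨v, hv, rfl⟩
      exact hVT ((inferInstance : (Cfsg.pCore p ↥M).Normal).conj_mem v hv a))
    refine ⟨b, ⟨b.2, ⟨b, hb, rfl⟩⟩, QuotientGroup.eq.mpr (mem_centralizer_iff.mpr fun v hv => ?_)⟩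
    have h := hba v hv
    calc v * (a⁻¹ * b) = a⁻¹ * (a * v * a⁻¹) * b := by group
      _ = a⁻¹ * (b * v * b⁻¹) * b := by rw [h]
      _ = a⁻¹ * b * v := by group
  set U := ((op p K).subgroupOf M).map π with hU
  set W := (HK.subgroupOf M).map π with hW
  have hUp : IsPGroup p ↥U :=
    ((op_isPGroup K).of_equiv (subgroupOfEquivOfLe ((op_le p K).trans hKM)).symm).map _
  have hWc : (Nat.card ↥W).Coprime p := by
    have h1 : Nat.card ↥(HK.subgroupOf M) = Nat.card ↥HK :=
      Nat.card_congr (subgroupOfEquivOfLe (hHK.1.trans hKM)).toEquiv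
    have h2 : Nat.card ↥W ∣ Nat.card ↥(HK.subgroupOf M) :=
      Subgroup.card_map_dvd (HK.subgroupOf M) π
    exact hHK.2.1.coprime_dvd_left (h1 ▸ h2)
  have hUn : ∀ a : ↥M, π a ∈ normalizer (U : Set (↥M ⧸ C)) := by
    intro a
    obtain ⟨b, hbK, hb⟩ := hsurj a
    rw [hb]
    refine mem_normalizer_of_conj ?_
    rintro _ ⟨u, hu, rfl⟩
    refine ⟨b * u * b⁻¹, mem_subgroupOf.mpr ?_, by simp⟩
    push_cast
    exact (mem_normalizer_iff.mp (op_normal p K hbK) u).mp (mem_subgroupOf.mp hu)
  have hWU : W ≤ normalizer (U : Set (↥M ⧸ C)) := by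
    rintro _ ⟨a, -, rfl⟩
    exact hUn a
  have hall : ∀ a : ↥M, π a ∈ U ⊔ W := by
    intro a
    obtain ⟨b, hbK, hb⟩ := hsurj a
    rw [hb, hU, hW, ← Subgroup.map_sup]
    have hm : b ∈ (op p K).subgroupOf M ⊔ HK.subgroupOf M := by
      rw [← subgroupOf_sup ((op_le p K).trans hKM) (hHK.1.trans hKM)]
      exact mem_subgroupOf.mpr (hKeq _ hbK)
    exact mem_map_of_mem π hm
  set R := H ⊓ centralizer (op p M : Set G) with hR
  have hstep : ∀ n ∈ M ⊓ normalizer (H : Set G), PEl p n → ∀ h ∈ H, n * h * n⁻¹ * h⁻¹ ∈ R := by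
    intro n hn hnp h hh
    have hm1 : n * h * n⁻¹ * h⁻¹ ∈ H :=
      mul_mem ((mem_normalizer_iff.mp hn.2 h).mp hh) (inv_mem hh)
    refine ⟨hm1, ?_⟩
    set nM : ↥M := ⟨n, hn.1⟩
    set hMe : ↥M := ⟨h, hH.1 hh⟩
    obtain ⟨k, hk⟩ := hnp
    have hnU : π nM ∈ U := pel_mem_of_mem_sup hUp hWc hWU (hall nM)
      ⟨k, by rw [← map_pow, show nM ^ p ^ k = 1 from Subtype.ext (by simpa using hk), map_one]⟩
    have hzU : π (nM * hMe * nM⁻¹ * hMe⁻¹) ∈ U := by
      have h3 := (mem_normalizer_iff.mp (hUn hMe) (π nM)⁻¹).mp (inv_mem hnU)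
      have := mul_mem hnU h3
      simp only [map_mul, map_inv]
      simpa [mul_assoc] using this
    have hz1 : π (nM * hMe * nM⁻¹ * hMe⁻¹) = 1 := by
      refine coprime_pel (pel_of_mem hUp hzU) (Nat.Coprime.coprime_dvd_left (orderOf_map_dvd π _) ?_)
      rw [← Subgroup.orderOf_coe]
      exact coprime_orderOf hH.2.1 hm1
    have hzC : nM * hMe * nM⁻¹ * hMe⁻¹ ∈ C := (QuotientGroup.eq_one_iff _).mp hz1
    refine mem_centralizer_iff.mpr ?_
    rintro _ ⟨v, hv, rfl⟩
    exact congrArg Subtype.val (mem_centralizer_iff.mp hzC v hv)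
  have hHV : ∀ h ∈ H, h ∈ centralizer (op p M : Set G) := by
    intro h hh
    set T' := M ⊓ normalizer (H : Set G) with hT'
    obtain ⟨P2⟩ := (inferInstance : Nonempty (Sylow p ↥T'))
    set P2' := (P2 : Subgroup ↥T').map T'.subtype with hP2'
    have hP2T : P2' ≤ T' := map_subtype_le _
    have hP2p : IsPGroup p ↥P2' := P2.2.map _
    have hRn : T' ≤ normalizer (R : Set G) := Coprime.le_normalizer_inf inf_le_right
      (Coprime.le_normalizer_centralizer (inf_le_left.trans (op_normal p M)))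
    obtain ⟨j, hj⟩ := IsPGroup.iff_card.mp hP2p
    have hRc : (Nat.card ↥R).Coprime p := hH.2.1.coprime_dvd_left (card_dvd_of_le inf_le_left)
    haveI := (S.hyp R hRc).1
    obtain ⟨r, hr, hrc⟩ := Coprime.exists_fixed_in_coset_of_normal P2' R (hP2T.trans hRn)
      (by rw [hj]; exact (hRc.pow_right j).symm)
      (Or.inr (Group.isSolvable_of_comm fun a b => mul_comm' a b)) h
      (hRn ⟨hH.1 hh, le_normalizer hh⟩)
      fun a ha => hstep a (hP2T ha) (pel_of_mem hP2p ha) h hh
    have hyH : h * r ∈ H := mul_mem hh hr.1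
    obtain ⟨hHM, hHc, k, hk⟩ := hH
    have hTE : T' ≤ centralizer ({h * r} : Set G) := by
      set E := T' ⊓ centralizer ({h * r} : Set G) with hE
      have hHE : H ≤ E := le_inf (le_inf hHM le_normalizer) fun z hz =>
        mem_centralizer_singleton_iff.mpr (S.hyp.comm hHc hz hyH).eq
      have hPE : P2' ≤ E := le_inf hP2T fun z hz =>
        mem_centralizer_singleton_iff.mpr (mem_centralizer_iff.mp hrc z hz)
      obtain ⟨d, hd⟩ := card_dvd_of_le (le_inf hHM le_normalizer : H ≤ T')
      have hdp : d ∣ p ^ k := Nat.dvd_of_mul_dvd_mul_left Nat.card_pos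
        (hk ▸ hd ▸ card_dvd_of_le (inf_le_left : T' ≤ M))
      obtain ⟨e, -, he⟩ := (Nat.dvd_prime_pow S.hprime).mp hdp
      have hP2c : Nat.card ↥P2' = p ^ e := by
        rw [hP2', card_map_of_injective T'.subtype_injective, P2.card_eq_multiplicity, hd, he,
          Nat.factorization_mul Nat.card_pos.ne' (pow_ne_zero _ S.hprime.ne_zero)]
        congr 1
        rw [Finsupp.coe_add, Pi.add_apply, Nat.factorization_eq_zero_of_not_dvd
          (S.hprime.coprime_iff_not_dvd.mp hHc.symm), Nat.Prime.factorization_pow S.hprime,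
          Finsupp.single_eq_same, zero_add]
      have hdvd : Nat.card ↥T' ∣ Nat.card ↥E := by
        rw [hd, he]
        exact (hHc.pow_right e).mul_dvd_of_dvd_of_dvd (card_dvd_of_le hHE)
          (hP2c ▸ card_dvd_of_le hPE)
      exact (eq_of_le_of_card_ge inf_le_left (Nat.le_of_dvd Nat.card_pos hdvd)).ge.trans inf_le_right
    have h1 := S.transfer_fix hM ⟨hHM, hHc, k, hk⟩ hyH fun n hn _ =>
      mem_centralizer_singleton_iff.mp (hTE hn)
    rw [eq_inv_of_mul_eq_one_left h1]
    exact (inv_mem hr).2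
  refine hN fun t ht => ?_
  obtain ⟨v, hv, n, hn, rfl⟩ := (S.structure_hall hMtop hH).2.1 t ht
  refine mul_mem (centralizer_le_normalizer _ (mem_centralizer_iff.mpr fun h hh => ?_)) hn.2
  exact (mem_centralizer_iff.mp (hHV h hh) v hv).symm

/-- An attached subgroup without normal Hall subgroup contains a Sylow `p`-subgroup and the
normaliser of its `Z(J)`. -/
theorem exists_ctrl {M : Subgroup G} (hM : Big p M) (hN : ¬ NType p M) :
    ∃ P : Sylow p G, (P : Subgroup G) ≤ M ∧
      normalizer (Cfsg.centerThompsonAOf (P : Subgroup G) : Set G) ≤ M ∧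
      ∃ x ∈ normalizer (Cfsg.centerThompsonAOf (P : Subgroup G) : Set G), PReg p x := by
  haveI := S.finite
  haveI := S.factP
  have hMtop := S.big_ne_top hM
  obtain ⟨H, hH, -⟩ := S.exists_hall hMtop (bot_le : (⊥ : Subgroup G) ≤ M) (by simp)
  obtain ⟨T⟩ := (inferInstance : Nonempty (Sylow p ↥M))
  obtain ⟨q, B, hB, hBK⟩ := S.exists_ctrl_aux hM hH (fun h => hN ⟨H, hH, h⟩) T
  set P1 := (T : Subgroup ↥M).map M.subtype with hP1
  set Z := Cfsg.centerThompsonAOf P1 with hZ
  have hZmap : (Cfsg.centerThompsonAOf (T : Subgroup ↥M)).map M.subtype = Z := PLocalB.ZJFail.map_zj T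
  have hBN : B ≤ normalizer (Z : Set G) := by
    intro b hb
    obtain ⟨b', hb', rfl⟩ := (hBK hb).2
    refine mem_normalizer_of_conj ?_
    rw [← hZmap]
    rintro _ ⟨z, hz, rfl⟩
    exact ⟨b' * z * b'⁻¹, (mem_normalizer_iff.mp hb' z).mp hz, rfl⟩
  have hZne : Z ≠ ⊥ → normalizer (Z : Set G) ≤ M := fun hne =>
    S.big_le_of_thick hM (S.normalizer_ne_top hne fun h => hMtop (top_le_iff.mp
      (h ▸ (hZmap ▸ map_subtype_le _)))) hB (hBK.trans inf_le_left) hBN
  have hne : Z ≠ ⊥ := by
    have hT1 : (T : Subgroup ↥M) ≠ ⊥ := by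
      intro hbot
      refine hN ⟨H, hH, ?_⟩
      have hc : Nat.card ↥(T : Subgroup ↥M) = 1 := by rw [hbot, card_bot]
      obtain ⟨hHM, hHc, k, hk⟩ := hH
      rw [T.card_eq_multiplicity, hk,
        Nat.factorization_mul Nat.card_pos.ne' (pow_ne_zero _ S.hprime.ne_zero)] at hc
      have hk0 : k = 0 := by
        have := (Nat.pow_eq_one.mp hc).resolve_left S.hprime.ne_one
        simpa [Nat.factorization_eq_zero_of_not_dvd
          (S.hprime.coprime_iff_not_dvd.mp hHc.symm), Nat.Prime.factorization_pow S.hprime] using this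
      subst hk0
      rw [pow_zero, mul_one] at hk
      exact (eq_of_le_of_card_ge hHM hk.le).ge.trans le_normalizer
    intro hbot
    have h1 : Cfsg.centerThompsonAOf (T : Subgroup ↥M) = ⊥ :=
      (Subgroup.map_eq_bot_iff_of_injective _ M.subtype_injective).mp (hZmap.trans hbot)
    exact PLocalB.centerThompsonAOf_ne_bot T.2 hT1 h1
  have hNM := hZne hne
  obtain ⟨P, hP⟩ := (T.2.map M.subtype : IsPGroup p ↥P1).exists_le_sylow
  have hP1M : P1 ≤ M := map_subtype_le _
  have heq : P1 = (P : Subgroup G) := by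
    by_contra hne'
    have hlt := lt_of_le_of_ne hP hne'
    have hlt' := lt_inf_normalizer P.2 hlt
    have hle : (P : Subgroup G) ⊓ normalizer (P1 : Set G) ≤ M :=
      inf_le_right.trans ((PLocalB.normalizer_le_normalizer_ZJ P1).trans hNM)
    set E := ((P : Subgroup G) ⊓ normalizer (P1 : Set G)).subgroupOf M with hE
    have hEp : IsPGroup p ↥E := (P.2.to_le inf_le_left).comap_subtype
    have hTE : (T : Subgroup ↥M) ≤ E := fun z hz => mem_subgroupOf.mpr (hlt'.le ⟨z, hz, rfl⟩)
    have hET := T.3 hEp hTE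
    refine hlt'.ne (le_antisymm hlt'.le fun z hz => ?_)
    exact ⟨⟨z, hle hz⟩, hET ▸ (mem_subgroupOf.mpr hz), rfl⟩
  obtain ⟨b, hb, hb1⟩ := hB.exists_ne_one
  exact ⟨P, heq ▸ hP1M, heq ▸ hNM, b, heq ▸ hBN hb, S.thick_preg hB hb hb1⟩

end Std

end Cfsg.Agent.AbExp
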